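import Groth.Agent.VarDepth.Stalk
import Groth.Agent.AmpleVan.Mul
import Groth.Agent.AmpleX.FiniteSet
import Groth.Agent.AmpleX.Sect
import Groth.Agent.CurveCohLib.Rank
import Groth.Agent.H23.RedSub
import Groth.Agent.H23.PicInv
import Groth.Agent.Lib.AVProj
import Groth.Prelude.Def_Formal

/-! Auxiliary facts for the vanishing of cohomology of negative twists. -/

noncomputable section

set_option linter.style.haveILetI false
set_option linter.unusedSectionVars false
set_option backward.isDefEq.respectTransparency false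
set_option backward.isDefEq.respectTransparency.types false

universe u

open CategoryTheory CategoryTheory.Limits AlgebraicGeometry TopologicalSpace MonoidalCategory
open scoped Pointwise
open Groth.Agent.PnCoh.Finite (mapLin deltaLin)

namespace Groth.Agent.VarDepth

open Groth.Agent Groth.Agent.H23.PicMul

variable {X : Scheme.{u}}

local notation "O_" => Coh.structureModule X

/-- Tensoring on the left. -/
abbrev tl (G : X.Modules) : X.Modules ⥤ X.Modules := (DCoh.tensorBi (X := X)).obj G

theorem additive_tl (G : X.Modules) : (tl G).Additive :=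
  Functor.additive_of_preserves_binary_products _

theorem additive_tw (P : X.Modules) : (AmpleVan.tw P).Additive :=
  Functor.additive_of_preserves_binary_products _

/-- Cokernels commute with tensoring. -/
theorem nonempty_cokernel_tl (G : X.Modules) {A B : X.Modules} (φ : A ⟶ B) :
    Nonempty (cokernel ((tl G).map φ) ≅ (tl G).obj (cokernel φ)) := by
  haveI := additive_tl G
  exact ⟨(PreservesCokernel.iso (tl G) φ).symm⟩

theorem cokernel_cl_tl (G : X.Modules) {A B : X.Modules} (φ : A ⟶ B) :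
    PicF.cl (cokernel ((tl G).map φ)) = PicF.cl G * PicF.cl (cokernel φ) := by
  rw [cl_eq_iff.2 (nonempty_cokernel_tl G φ)]
  exact cl_tensor _ _

theorem map_tmul_right {M N N' : X.Modules} (φ : N ⟶ N') {U : X.Opens} (a : Γ(M, U)) (b : Γ(N, U)) :
    ((tl M).map φ).app U (InvX.tmul a b) = InvX.tmul a (φ.app U b) := by
  have h := KFlatLib.unitShP_naturality (DCoh.toP.obj M ◁ DCoh.toP.map φ)
  exact congr(($h).app (Opposite.op U) (KFlatLib.tm a b)).symm

/-- Bijectivity at a point of a map of invertible modules only needs surjectivity. -/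
theorem isoAt_of_surjective {A B : X.Modules} (hA : PicF.IsInvertible A) (hB : PicF.IsInvertible B)
    (φ : A ⟶ B) {x : X} (h : Function.Surjective ((stk x).map φ)) : IsoAt φ x := by
  obtain ⟨g, β, hg, hiff⟩ := exists_coord hA hB φ x
  obtain ⟨b, hb⟩ := exists_gen hB x
  refine hiff.2 ?_
  obtain ⟨m, hm⟩ := h b
  rw [hg] at hm
  obtain ⟨c, hc⟩ := hb.2 (β.hom m)
  have hm' : g • β.hom m = b := hm
  rw [← hc] at hm'
  change g • c • b = b at hm'
  rw [← mul_smul] at hm'
  exact IsUnit.of_mul_eq_one c (hb.1 (a₁ := g * c) (a₂ := 1) (hm'.trans (one_smul _ b).symm))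

theorem isoAt_tl {G A B : X.Modules} (hG : PicF.IsInvertible G) (hA : PicF.IsInvertible A)
    (hB : PicF.IsInvertible B) (φ : A ⟶ B) (x : X) : IsoAt ((tl G).map φ) x ↔ IsoAt φ x := by
  obtain ⟨g, θ, hg, hiff⟩ := exists_tensor_coord G hA hB φ x
  constructor
  · intro h
    haveI : IsIso (g • θ.hom) := hg ▸ h
    obtain ⟨b, hb⟩ := exists_gen (InvX.isInvertible_tensorMod hG hB) x
    obtain ⟨m, hm⟩ := (ConcreteCategory.bijective_of_isIso (g • θ.hom)).2 b
    obtain ⟨c, hc⟩ := hb.2 (θ.hom m)
    have hm' : g • θ.hom m = b := hm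
    rw [← hc] at hm'
    change g • c • b = b at hm'
    rw [← mul_smul] at hm'
    exact hiff.2 (IsUnit.of_mul_eq_one c (hb.1 (a₁ := g * c) (a₂ := 1) (hm'.trans (one_smul _ b).symm)))
  · intro h
    have hu := hiff.1 h
    show IsIso ((stk x).map ((tl G).map φ))
    rw [hg]
    refine ⟨(↑(hu.unit⁻¹) : X.presheaf.stalk x) • θ.inv, ?_, ?_⟩ <;>
      simp [Linear.smul_comp, Linear.comp_smul, smul_smul]

theorem isoAt_comp_iso {A B C : X.Modules} (φ : A ⟶ B) (e : B ≅ C) (x : X) :
    IsoAt (φ ≫ e.hom) x ↔ IsoAt φ x := by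
  show IsIso ((stk x).map (φ ≫ e.hom)) ↔ IsIso ((stk x).map φ)
  rw [Functor.map_comp]
  exact isIso_comp_right_iff _ _

theorem isoAt_iso_comp {A B C : X.Modules} (e : A ≅ B) (φ : B ⟶ C) (x : X) :
    IsoAt (e.hom ≫ φ) x ↔ IsoAt φ x := by
  show IsIso ((stk x).map (e.hom ≫ φ)) ↔ IsIso ((stk x).map φ)
  rw [Functor.map_comp]
  exact isIso_comp_left_iff _ _

/-- A section generates exactly where it is bijective on stalks. -/
theorem isoAt_iff_mem_genLocus {L : X.Modules} (hL : PicF.IsInvertible L) (s : O_ ⟶ L) (x : X) :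
    IsoAt s x ↔ x ∈ CohB1.genLocus L s := by
  constructor
  · intro h
    haveI : IsIso ((stk x).map s) := h
    obtain ⟨W, hxW, e, he⟩ := InvX.exists_frame hL x
    obtain ⟨g, hg⟩ := he.exists_coord le_rfl (AModX.res L (le_top : W ≤ ⊤) (InvX.one s))
    rw [AModX.res_self] at hg
    obtain ⟨p, hp⟩ := (ConcreteCategory.bijective_of_isIso ((stk x).map s)).2 (L.presheaf.germ W x hxW e)
    obtain ⟨V, hxV, r, rfl⟩ := (Coh.structureModule X).presheaf.germ_exist p
    let W' := V ⊓ W
    have hxW' : x ∈ W' := ⟨hxV, hxW⟩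
    rw [← (Coh.structureModule X).presheaf.germ_res_apply (homOfLE (inf_le_left : W' ≤ V)) x hxW' r] at hp
    generalize (Coh.structureModule X).presheaf.map (homOfLE (inf_le_left : W' ≤ V)).op r = r' at hp
    erw [DerSch.stalkFunctor_map_germ, InvX.app_eq_smul s (show Γ(X, W') from r')] at hp
    have h2 : AModX.res L (le_top : W' ≤ ⊤) (InvX.one s) =
        X.presheaf.map (homOfLE (inf_le_right : W' ≤ W)).op g • AModX.res L (inf_le_right : W' ≤ W) e := by
      have h3 := congrArg (AModX.res L (inf_le_right : W' ≤ W)) hg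
      rw [AModX.res_res, AModX.res_smul] at h3
      exact h3
    rw [h2, ← mul_smul, QCoh.germ_smul', InvX.germ_res', map_mul] at hp
    have hgu : IsUnit (X.presheaf.germ W x hxW g) := by
      have h4 := (he.germ_bijective hxW).1
        (a₂ := (1 : X.presheaf.stalk x)) (hp.trans (one_smul _ (L.presheaf.germ W x hxW e)).symm)
      erw [X.presheaf.germ_res_apply] at h4
      exact IsUnit.of_mul_eq_one _ ((mul_comm _ _).trans h4)
    exact ((InvX.genLocus_inf s he hg).ge ((X.mem_basicOpen g x hxW).2 hgu)).1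
  · intro h
    obtain ⟨U, hU, hxU⟩ : ∃ U : X.Opens,
        IsIso ((Scheme.Modules.restrictFunctor U.ι).map s) ∧ x ∈ U :=
      TopologicalSpace.Opens.mem_sSup.1 h
    haveI := hU
    exact isoAt_of_restrict s hxU

theorem isInvertible_inverse {L M : X.Modules} (hL : PicF.IsInvertible L) (hM : ClSub.IsInverseOf L M) :
    PicF.IsInvertible M := by
  obtain ⟨D, hD, ⟨e⟩⟩ := H23.PicInv.exists_inverse hL
  have h1 : PicF.cl L * PicF.cl M = 1 := cl_eq_iff.2 hM
  have h2 : PicF.cl L * PicF.cl D = 1 := cl_eq_iff.2 ⟨e⟩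
  obtain ⟨e'⟩ : Nonempty (D ≅ M) := cl_eq_iff.1 (by
    calc PicF.cl D = PicF.cl D * (PicF.cl L * PicF.cl M) := by rw [h1, mul_one]
      _ = PicF.cl M := by rw [← mul_assoc, mul_comm (PicF.cl D), h2, one_mul])
  exact H23.PicMul.isInvertible_of_iso e' hD

/-- A map between powers of the inverse of `L`, from a section of a power of `L`. -/
theorem exists_powMap {L M : X.Modules} (hL : PicF.IsInvertible L) (hM : ClSub.IsInverseOf L M)
    (n N : ℕ) (s : O_ ⟶ CohB1.tensorPow L N) :
    ∃ φ : CohB1.tensorPow M (n + N) ⟶ CohB1.tensorPow M n,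
      ∀ x, IsoAt φ x ↔ x ∈ CohB1.genLocus _ s := by
  have hMi := isInvertible_inverse hL hM
  have h1 : PicF.cl M * PicF.cl L = 1 := by
    rw [mul_comm]
    exact cl_eq_iff.2 hM
  obtain ⟨e⟩ : Nonempty (CohB1.tensorPow M (n + N) ≅ (tl (CohB1.tensorPow M (n + N))).obj O_) :=
    ⟨(H23.PicMul.unit _).some.symm⟩
  obtain ⟨e'⟩ : Nonempty ((tl (CohB1.tensorPow M (n + N))).obj (CohB1.tensorPow L N) ≅
      CohB1.tensorPow M n) := cl_eq_iff.1 (by
    show PicF.cl (CohB1.tensorMod (CohB1.tensorPow M (n + N)) (CohB1.tensorPow L N)) = _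
    rw [cl_tensor, cl_tensorPow, cl_tensorPow, cl_tensorPow, pow_add, mul_assoc, ← mul_pow, h1,
      one_pow, mul_one])
  refine ⟨e.hom ≫ (tl (CohB1.tensorPow M (n + N))).map s ≫ e'.hom, fun x => ?_⟩
  rw [isoAt_iso_comp, isoAt_comp_iso, isoAt_tl (InvX.isInvertible_tensorPow hMi _)
    InvX.isInvertible_structureModule (InvX.isInvertible_tensorPow hL N) s x,
    isoAt_iff_mem_genLocus (InvX.isInvertible_tensorPow hL N)]

section Field

variable (k : Type u) [Field k] [X.Over (Spec (CommRingCat.of k))]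

theorem hmap_comp {A B C : X.Modules} (φ : A ⟶ B) (ψ : B ⟶ C) (n : ℕ) :
    mapLin k (φ ≫ ψ) n = (mapLin k ψ n).comp (mapLin k φ n) :=
  LinearMap.ext fun y => (PnCoh.Finite.map_map (Y := X.toPresheafedSpace.carrier)
    ((QCoh.toAbFunctor X).map_comp φ ψ).symm n y).symm

theorem hmap_add {A B : X.Modules} (φ ψ : A ⟶ B) (n : ℕ) :
    mapLin k (φ + ψ) n = mapLin k φ n + mapLin k ψ n := by
  haveI : (QCoh.toAbFunctor X).Additive := inferInstance
  refine LinearMap.ext fun y => ?_
  show ((Sheaf.functorH _ n).map ((QCoh.toAbFunctor X).map (φ + ψ))).hom y = _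
  rw [Functor.map_add, Functor.map_add]
  rfl

/-- Morphisms as an additive map into linear maps on cohomology. -/
def hmapHom (A B : X.Modules) (n : ℕ) : (A ⟶ B) →+ (Coh.HH X A n →ₗ[k] Coh.HH X B n) :=
  AddMonoidHom.mk' (fun φ => mapLin k φ n) (fun φ ψ => hmap_add k φ ψ n)

theorem hmap_smulMod (M : X.Modules) (c : k) (n : ℕ) (y : Coh.HH X M n) :
    mapLin k (Formal.smulMod k M c) n y = c • y := rfl

theorem tl_map_smulMod (G B : X.Modules) (c : k) :
    (tl G).map (Formal.smulMod k B c) = Formal.smulMod k ((tl G).obj B) c := by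
  refine AmpleVan.hom_ext_tmul fun U m b => ?_
  refine (map_tmul_right _ m b).trans ?_
  exact InvX.tmul_smul_right (Coh.resTop X (Opposite.op U) (Coh.toGlobal (X ↘ Spec (CommRingCat.of k)) c)) m b

variable [IsProper (X ↘ Spec (CommRingCat.of k))]

include k in
/-- A closed set inside an affine open of a proper scheme is finite, with closed points. -/
theorem finite_of_subset_affine {U : X.Opens} (hU : IsAffineOpen U) {C : Set X} (hC : IsClosed C)
    (hCU : C ⊆ (U : Set X)) : C.Finite ∧ ∀ y ∈ C, IsClosed ({y} : Set X) := by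
  haveI : JacobsonSpace X := LocallyOfFiniteType.jacobsonSpace (X ↘ Spec (CommRingCat.of k))
  let Cc : Closeds X := ⟨C, hC⟩
  let j := (Scheme.IdealSheafData.vanishingIdeal Cc).subschemeι
  have hrange : Set.range j = C := H23.RedSub.range_vanishingIdeal Cc
  have hle : Set.range j ⊆ Set.range U.ι := by rw [hrange, Scheme.Opens.range_ι]; exact hCU
  let g := IsOpenImmersion.lift U.ι j hle
  haveI : IsClosedImmersion (g ≫ U.ι) := by rw [IsOpenImmersion.lift_fac]; infer_instance
  haveI : IsClosedImmersion g := IsClosedImmersion.of_comp g U.ι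
  haveI : IsAffine U.toScheme := hU
  haveI : IsAffine (Scheme.IdealSheafData.vanishingIdeal Cc).subscheme := isAffine_of_isAffineHom g
  haveI := AVProj.finite_of_isProper_quasiAffine (j ≫ (X ↘ Spec (CommRingCat.of k)))
  have hfin : C.Finite := hrange ▸ Set.finite_range _
  refine ⟨hfin, fun y hy => ?_⟩
  haveI : Finite ↥C := hfin.to_subtype
  haveI : JacobsonSpace ↥C := .of_isClosedEmbedding hC.isClosedEmbedding_subtypeVal
  haveI : DiscreteTopology ↥C := inferInstance
  have h := hC.isClosedEmbedding_subtypeVal.isClosedMap _ (isClosed_discrete ({⟨y, hy⟩} : Set ↥C))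
  rwa [Set.image_singleton] at h

include k in
/-- The closure of a non-closed point contains closed points outside a given finite set. -/
theorem exists_closed_point_avoiding {x : X} (hx : ¬ IsClosed ({x} : Set X)) (T : Finset X) :
    ∃ z, IsClosed ({z} : Set X) ∧ x ⤳ z ∧ z ∉ T := by
  classical
  haveI : JacobsonSpace X := LocallyOfFiniteType.jacobsonSpace (X ↘ Spec (CommRingCat.of k))
  let T' := T.filter fun z => IsClosed ({z} : Set X)
  have hT' : IsClosed ((T' : Set X)) := by
    rw [← Set.biUnion_of_singleton (T' : Set X)]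
    exact Set.Finite.isClosed_biUnion T'.finite_toSet fun z hz => (Finset.mem_filter.1 hz).2
  obtain ⟨z, ⟨hz1, hz2⟩, hzc⟩ := nonempty_inter_closedPoints (Z := closure {x} ∩ (T' : Set X)ᶜ)
    ⟨x, subset_closure rfl, fun h => hx (Finset.mem_filter.1 h).2⟩
    (isClosed_closure.isLocallyClosed.inter hT'.isOpen_compl.isLocallyClosed)
  exact ⟨z, mem_closedPoints_iff.1 hzc, specializes_iff_mem_closure.2 hz1,
    fun h => hz2 (Finset.mem_filter.2 ⟨h, mem_closedPoints_iff.1 hzc⟩)⟩

end Field

end Groth.Agent.VarDepth
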