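import Groth.Agent.VarDepth.H1
import Groth.Agent.ZeroSchX.Basic
import Groth.Agent.AmpleX.Locus
import Groth.Agent.S1297
import Groth.Agent.FlatLoc6.FiberRing

/-! Zero schemes of ample regular sections in depth two are connected. -/

noncomputable section

set_option linter.style.haveILetI false
set_option linter.unusedSectionVars false
set_option backward.isDefEq.respectTransparency false
set_option backward.isDefEq.respectTransparency.types false

universe u

open CategoryTheory CategoryTheory.Limits AlgebraicGeometry TopologicalSpace Opposite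
open Groth.Agent.PnCoh.Finite (mapLin deltaLin)

namespace Groth.Agent.VarDepth

open Groth.Agent Groth.Agent.H23.PicMul

variable {X : Scheme.{u}}

local notation "O_" => Coh.structureModule X

theorem support_zeroScheme_eq {P : X.Modules} (hP : PicF.IsInvertible P) (s : O_ ⟶ P) :
    ((PicF2.zeroScheme P s).support : Set X) = ((CohB1.genLocus P s : X.Opens) : Set X)ᶜ := by
  rw [AmpleX.genLocus_eq_locus]
  ext x
  obtain ⟨W, hxW, f, hf⟩ := InvX.exists_frame hP x
  obtain ⟨_, ⟨V, hV, rfl⟩, hxV, hVW⟩ := X.isBasis_affineOpens.exists_subset_of_mem_open hxW W.isOpen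
  obtain ⟨c, hc⟩ := (hf V hVW).2 (ZeroSchX.sv s V)
  have h1 : AModX.res P (le_top : V ≤ ⊤) (InvX.one s) = c • AModX.res P hVW f :=
    (ZeroSchX.res_sv s (le_top : V ≤ ⊤)).trans hc.symm
  have h2 := congrArg (fun O : X.Opens => x ∈ O) (AmpleX.locus_inf (InvX.one s) le_top (hf.res hVW) h1)
  simp only [Opens.mem_inf, eq_iff_iff] at h2
  have h3 : x ∈ AmpleX.locus (InvX.one s) ↔ x ∈ X.basicOpen c :=
    ⟨fun h => h2.1 ⟨h, hxV⟩, fun h => (h2.2 h).1⟩
  rw [Set.mem_compl_iff, SetLike.mem_coe, SetLike.mem_coe, h3,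
    Scheme.IdealSheafData.mem_support_iff_of_mem (U := ⟨V, hV⟩) hxV, ZeroSchX.ideal_zeroScheme hP,
    ZeroSchX.zeroIdealOn_eq_span _ (hf.res hVW) hc.symm, Scheme.zeroLocus_span, Scheme.mem_zeroLocus_iff]
  exact ⟨fun h => h c rfl, fun h f hf => by rw [Set.mem_singleton_iff.1 hf]; exact h⟩

/-- A monomorphism from the structure sheaf to an invertible module generates at associated points. -/
theorem isoAt_of_mono {L : X.Modules} (hL : PicF.IsInvertible L) (s : O_ ⟶ L) [Mono s] {x : X}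
    [IsLocallyNoetherian X] (hx : Curv2.IsAssPoint O_ x) : IsoAt s x := by
  obtain ⟨g, β, hg, hiff⟩ := exists_coord InvX.isInvertible_structureModule hL s x
  refine hiff.2 (by_contra fun hgu => ?_)
  have hinj : Function.Injective ((stk x).map s) := (ModuleCat.mono_iff_injective _).1 inferInstance
  haveI : IsNoetherianRing (X.presheaf.stalk x) := inferInstance
  obtain ⟨hp, v, hv⟩ := isAssociatedPrime_iff.1 (AssociatedPrimes.mem_iff.1 (isAssPoint_iff_mem.1 hx))
  have hgv : g • v = 0 := by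
    have : g ∈ IsLocalRing.maximalIdeal (X.presheaf.stalk x) := hgu
    rw [hv, Submodule.mem_colon_singleton, Submodule.mem_bot] at this
    exact this
  have hv0 : v = 0 := hinj (by
    rw [map_zero]
    rw [hg]
    show g • β.hom v = 0
    rw [← map_smul, hgv, map_zero])
  rw [hv0] at hv
  exact hp.ne_top (hv.trans (by simp))

/-- The stalk of a cokernel vanishes where the map is bijective. -/
theorem stalk_cokernel_eq_zero {A B : X.Modules} (φ : A ⟶ B) {x : X} (hx : IsoAt φ x)
    (c : (stk x).obj (cokernel φ)) : c = 0 := by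
  obtain ⟨b, hb⟩ := (ModuleCat.epi_iff_surjective ((stk x).map (cokernel.π φ))).1 inferInstance c
  haveI : IsIso ((stk x).map φ) := hx
  obtain ⟨a, rfl⟩ := (ConcreteCategory.bijective_of_isIso ((stk x).map φ)).2 b
  rw [← hb, ← ConcreteCategory.comp_apply, ← Functor.map_comp, cokernel.condition]
  haveI := additive_stk x
  rw [Functor.map_zero]
  rfl

/-- A section of the cokernel equal to one near `A` and to zero near `B`. -/
theorem exists_glued {P : X.Modules} (φ : P ⟶ O_) {A B : Set X} (hA : IsClosed A) (hB : IsClosed B)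
    (hdisj : Disjoint A B) (hout : ∀ x, x ∉ A → x ∉ B → IsoAt φ x) :
    ∃ t : Γ(cokernel φ, ⊤),
      (∀ a ∈ A, (cokernel φ).presheaf.germ ⊤ a trivial t = (cokernel φ).presheaf.germ ⊤ a trivial
        ((cokernel.π φ).app ⊤ (show Γ(O_, ⊤) from (1 : Γ(X, ⊤))))) ∧
      (∀ b ∈ B, (cokernel φ).presheaf.germ ⊤ b trivial t = 0) := by
  let Q := cokernel φ
  let F : TopCat.Sheaf Ab X.toTopCat := ⟨Q.presheaf, Q.isSheaf⟩
  let t₀ : Γ(Q, ⊤) := (cokernel.π φ).app ⊤ (show Γ(O_, ⊤) from (1 : Γ(X, ⊤)))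
  let U : X.Opens := ⟨Bᶜ, hB.isOpen_compl⟩
  let V : X.Opens := ⟨Aᶜ, hA.isOpen_compl⟩
  let W : Bool → X.Opens := fun i => cond i U V
  let sf : ∀ i, Q.presheaf.obj (op (W i)) := fun i =>
    match i with
    | true => Q.presheaf.map (homOfLE (le_top : U ≤ ⊤)).op t₀
    | false => 0
  have hzero : ∀ y, y ∈ U → y ∈ V → Subsingleton (Q.presheaf.stalk y) := fun y hU hV =>
    subsingleton_of_forall_eq 0 fun c => stalk_cokernel_eq_zero φ (hout y hV hU) c
  obtain ⟨t, ht, -⟩ := F.existsUnique_gluing' W ⊤ (fun i => homOfLE le_top) (fun x _ => by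
      rw [Opens.mem_iSup]
      by_cases hxA : x ∈ A
      · exact ⟨true, fun hxB => Set.disjoint_left.1 hdisj hxA hxB⟩
      · exact ⟨false, hxA⟩) sf (fun i j => by
      cases i <;> cases j
      · rfl
      · exact TopCat.Presheaf.section_ext F _ _ _ fun y hy => (hzero y hy.2 hy.1).elim _ _
      · exact TopCat.Presheaf.section_ext F _ _ _ fun y hy => (hzero y hy.1 hy.2).elim _ _
      · rfl)
  refine ⟨t, fun a ha => ?_, fun b hb => ?_⟩
  · have haU : a ∈ U := fun haB => Set.disjoint_left.1 hdisj ha haB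
    have h1 := congrArg (Q.presheaf.germ (W true) a haU) (ht true)
    exact ((Q.presheaf.germ_res_apply (homOfLE le_top) a haU t).symm.trans h1).trans
      (Q.presheaf.germ_res_apply (homOfLE le_top) a haU t₀)
  · have hbV : b ∈ V := fun hbA => Set.disjoint_left.1 hdisj hbA hb
    have h1 := congrArg (Q.presheaf.germ (W false) b hbV) (ht false)
    exact ((Q.presheaf.germ_res_apply (homOfLE le_top) b hbV t).symm.trans h1).trans (map_zero _)

/-- Congruences at stalks for a function mapping to given germs of a cokernel. -/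
theorem exists_mul_of_germ {P : X.Modules} (hP : PicF.IsInvertible P) (φ : P ⟶ O_) {x : X}
    (hx : ¬ IsoAt φ x) (c d : Γ(X, ⊤))
    (h : (cokernel φ).presheaf.germ ⊤ x trivial ((cokernel.π φ).app ⊤ (show Γ(O_, ⊤) from c)) =
      (cokernel φ).presheaf.germ ⊤ x trivial ((cokernel.π φ).app ⊤ (show Γ(O_, ⊤) from d))) :
    X.presheaf.germ ⊤ x trivial c - X.presheaf.germ ⊤ x trivial d ∈
      IsLocalRing.maximalIdeal (X.presheaf.stalk x) := by
  let one : Γ(O_, ⊤) := (show Γ(O_, ⊤) from (1 : Γ(X, ⊤)))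
  let one' : (stk x).obj O_ := (O_).presheaf.germ ⊤ x trivial one
  have hbij : Function.Bijective fun r : X.presheaf.stalk x => r • one' :=
    (InvX.isFrame_one (⊤ : X.Opens)).germ_bijective (trivial : x ∈ (⊤ : X.Opens))
  have hgerm : ∀ r : Γ(X, ⊤), (cokernel φ).presheaf.germ ⊤ x trivial
      ((cokernel.π φ).app ⊤ (show Γ(O_, ⊤) from r)) =
      (stk x).map (cokernel.π φ) (X.presheaf.germ ⊤ x trivial r • one') := fun r => by
    rw [← DerSch.stalkFunctor_map_germ x (cokernel.π φ) ⊤ trivial]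
    refine congrArg ((stk x).map (cokernel.π φ)) ?_
    refine Eq.trans ?_ (QCoh.germ_smul' O_ (U := ⊤) (hx := (trivial : x ∈ (⊤ : X.Opens))) r one)
    exact congrArg ((O_).presheaf.germ ⊤ x trivial) (mul_one r).symm
  rw [hgerm, hgerm] at h
  let S := ShortComplex.mk φ (cokernel.π φ) (cokernel.condition φ)
  have hex := (KFlatLib.exact_iff_stalk _).1
    (ShortComplex.exact_of_g_is_cokernel S (cokernelIsCokernel φ)) x
  obtain ⟨y, hy⟩ := (ShortComplex.moduleCat_exact_iff _).1 hex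
    ((X.presheaf.germ ⊤ x trivial c - X.presheaf.germ ⊤ x trivial d) • one') (by
      show (stk x).map (cokernel.π φ) _ = 0
      rw [sub_smul, map_sub, h, sub_self])
  obtain ⟨g, β, hg, hiff⟩ := exists_coord hP InvX.isInvertible_structureModule φ x
  obtain ⟨r, hr⟩ := hbij.2 (β.hom y)
  change (stk x).map φ y = _ at hy
  rw [hg] at hy
  change g • β.hom y = _ at hy
  rw [← hr] at hy
  change g • r • one' = _ at hy
  rw [← mul_smul] at hy
  rw [← hbij.1 hy]
  exact Ideal.mul_mem_right r _ fun hu => hx (hiff.2 hu)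

/-- In an Artinian ring every element has a power multiplying to an idempotent. -/
theorem exists_idempotent {R : Type*} [CommRing R] [IsArtinianRing R] (f : R) :
    ∃ (n : ℕ) (e : R), 0 < n ∧ e * e = e ∧ f ^ n * e = f ^ n ∧ f ^ n ∣ e := by
  obtain ⟨n₀, y, hy₀⟩ := IsArtinian.exists_pow_succ_smul_dvd f (1 : R)
  simp only [smul_eq_mul, mul_one, Nat.succ_eq_add_one] at hy₀
  obtain ⟨n, hn, y, hy⟩ : ∃ n, 0 < n ∧ ∃ y, f ^ (n + 1) * y = f ^ n :=
    ⟨n₀ + 1, n₀.succ_pos, y, by rw [pow_succ, mul_right_comm, hy₀]; ring⟩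
  have key : ∀ j, f ^ (n + j) * y ^ j = f ^ n := fun j => by
    induction j with
    | zero => simp
    | succ j ih =>
      calc f ^ (n + (j + 1)) * y ^ (j + 1) = f ^ j * (f ^ (n + 1) * y) * y ^ j := by ring
        _ = f ^ (n + j) * y ^ j := by rw [hy]; ring
        _ = f ^ n := ih
  refine ⟨n, f ^ n * y ^ n, hn, ?_, ?_, dvd_mul_right _ _⟩
  · calc f ^ n * y ^ n * (f ^ n * y ^ n) = (f ^ (n + n) * y ^ n) * y ^ n := by ring
      _ = f ^ n * y ^ n := by rw [key]
  · calc f ^ n * (f ^ n * y ^ n) = f ^ (n + n) * y ^ n := by ring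
      _ = f ^ n := key n

section Field

variable (k : Type u) [Field k] [X.Over (Spec (CommRingCat.of k))] [IsProper (X ↘ Spec (CommRingCat.of k))]
  {L M : X.Modules}

include k in
/-- On a connected proper scheme no function is a unit at one point and not at another. -/
theorem isUnit_germ_of_connected [ConnectedSpace X] (f : Γ(X, ⊤)) {a b : X}
    (ha : IsUnit (X.presheaf.germ ⊤ a trivial f)) (hb : ¬ IsUnit (X.presheaf.germ ⊤ b trivial f)) : False := by
  let φ : k →+* Γ(X, ⊤) :=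
    (X ↘ Spec (CommRingCat.of k)).appTop.hom.comp (Scheme.ΓSpecIso (CommRingCat.of k)).inv.hom
  letI := φ.toAlgebra
  haveI : Module.Finite k Γ(X, ⊤) :=
    (S1297.finite_appTop (X ↘ Spec (CommRingCat.of k))).comp (RingHom.Finite.of_surjective _
      (Scheme.ΓSpecIso (CommRingCat.of k)).symm.commRingCatIsoToRingEquiv.surjective)
  haveI : IsArtinianRing Γ(X, ⊤) := IsArtinianRing.of_finite k _
  obtain ⟨n, e, hn, he, hfe, hdvd⟩ := exists_idempotent f
  let ga := (X.presheaf.germ ⊤ a trivial).hom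
  let gb := (X.presheaf.germ ⊤ b trivial).hom
  have hea : a ∈ X.basicOpen e := (Scheme.mem_basicOpen_top X e a).2 (by
    show IsUnit (ga e)
    have : ga f ^ n * ga e = ga f ^ n * 1 := by rw [mul_one, ← map_pow, ← map_mul, hfe]
    rw [(ha.pow n).mul_left_cancel this]
    exact isUnit_one)
  have hclopen : IsClopen (X.basicOpen e : Set X) := by
    refine ⟨isOpen_compl_iff.1 ?_, (X.basicOpen e).isOpen⟩
    have hc : (X.basicOpen (1 - e) : Set X) = (X.basicOpen e : Set X)ᶜ := by
      refine (IsCompl.compl_eq ⟨?_, ?_⟩).symm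
      · rw [Set.disjoint_iff_inter_eq_empty, ← Opens.coe_inf, ← Scheme.basicOpen_mul]
        simp [mul_sub, he, Scheme.basicOpen_zero]
      · rw [codisjoint_iff]
        show (X.basicOpen e : Set X) ∪ X.basicOpen (1 - e) = Set.univ
        rw [← Opens.coe_sup, ← Opens.coe_top, SetLike.coe_set_eq, eq_top_iff]
        refine le_trans ?_ (X.basicOpen_add_le e (1 - e))
        rw [add_sub_cancel, Scheme.basicOpen_of_isUnit _ isUnit_one]
    rw [← hc]
    exact (X.basicOpen (1 - e)).isOpen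
  rcases isClopen_iff.1 hclopen with h | h
  · exact (h ▸ hea : a ∈ (∅ : Set X))
  have heb : IsUnit (gb e) := (Scheme.mem_basicOpen_top X e b).1 (show b ∈ (X.basicOpen e : Set X) by rw [h]; trivial)
  obtain ⟨r, rfl⟩ := hdvd
  rw [map_mul, map_pow] at heb
  exact hb ((isUnit_pow_iff hn.ne').1 (isUnit_of_mul_isUnit_left heb))

include k in
/-- Vanishing of zeroth and first cohomology gives bijective restriction to the zero scheme. -/
theorem exists_lift {P : X.Modules} (φ : P ⟶ O_) [Mono φ] (h1 : Subsingleton (Coh.HH X P 1))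
    (t : Γ(cokernel φ, ⊤)) :
    ∃ c : Γ(X, ⊤), (cokernel.π φ).app ⊤ (show Γ(O_, ⊤) from c) = t := by
  let S := ShortComplex.mk φ (cokernel.π φ) (cokernel.condition φ)
  have hS : S.ShortExact := { exact := ShortComplex.exact_of_g_is_cokernel _ (cokernelIsCokernel φ) }
  let e := Sheaf.H.equiv₀ (Coh.toAb (cokernel φ)) isTerminalTop
  haveI : Subsingleton (Coh.HH X S.X₁ 1) := h1
  have hmem : e.symm t ∈ LinearMap.ker (deltaLin k hS 0) := LinearMap.mem_ker.2 (Subsingleton.elim _ _)
  rw [CurveCohLib.ker_deltaLin k hS 0] at hmem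
  obtain ⟨y, hy⟩ := hmem
  refine ⟨(Sheaf.H.equiv₀ (Coh.toAb O_) isTerminalTop y : Γ(O_, ⊤)), ?_⟩
  exact (Sheaf.H.equiv₀_naturality isTerminalTop ((QCoh.toAbFunctor X).map (cokernel.π φ)) y).trans
    ((congrArg e hy).trans (e.apply_symm_apply t))

include k in
/-- The cohomology of a high power of an inverse vanishes in degrees zero and one in depth two. -/
theorem vanish_pow (hL : CohB1.IsAmple L) (hM : ClSub.IsInverseOf L M)
    (hdepth : ∀ x : X, IsClosed ({x} : Set X) →
      2 ≤ LocCoh.depth (X.presheaf.stalk x) (X.presheaf.stalk x)) :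
    ∃ n₀ : ℕ, ∀ n, n₀ ≤ n → Subsingleton (Coh.HH X (CohB1.tensorPow M n) 0) ∧
      Subsingleton (Coh.HH X (CohB1.tensorPow M n) 1) := by
  haveI := CurveCohLib.isNoetherian_of_proper (k := k) (X := X)
  have hO : Coh.IsCoh (O_ : X.Modules) := QCoh.isCoh_structureModule'
  have hd : ∀ x : X, IsClosed ({x} : Set X) →
      2 ≤ LocCoh.depth (X.presheaf.stalk x) ((stk x).obj O_) := fun x hx => by
    obtain ⟨a, ha⟩ := exists_gen (InvX.isInvertible_structureModule (X := X)) x
    rw [← FlatLoc6.depth_congr'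
      (LinearEquiv.ofBijective (LinearMap.toSpanSingleton (X.presheaf.stalk x) _ a) ha)]
    exact hdepth x hx
  obtain ⟨n₁, h₁⟩ := h1_vanish k hL hM hO hd
  obtain ⟨n₀, h₀⟩ := h0_vanish k hL hM hO fun x hx =>
    not_isAssPoint_of_depth hO (le_trans (by decide) (hd x hx))
  refine ⟨n₀ + n₁, fun n hn => ?_⟩
  obtain ⟨e⟩ : Nonempty (CohB1.tensorPow M n ≅ (tl O_).obj (CohB1.tensorPow M n)) :=
    cl_eq_iff.1 (by rw [cl_twist, cl_tensorPow]; exact (one_mul _).symm)
  haveI := h₀ n (by omega)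
  haveI := h₁ n (by omega)
  exact ⟨(CurveCohLib.hhEquiv (k := k) e 0).toEquiv.subsingleton,
    (CurveCohLib.hhEquiv (k := k) e 1).toEquiv.subsingleton⟩

include k in
theorem connected_zeroScheme [ConnectedSpace X] (hL : CohB1.IsAmple L) (s : O_ ⟶ L) [Mono s]
    (hdepth : ∀ x : X, IsClosed ({x} : Set X) →
      2 ≤ LocCoh.depth (X.presheaf.stalk x) (X.presheaf.stalk x)) :
    IsConnected ((CohB1.genLocus L s : X.Opens) : Set X)ᶜ := by
  haveI := CurveCohLib.isNoetherian_of_proper (k := k) (X := X)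
  obtain ⟨M, -, hM'⟩ := H23.PicInv.exists_inverse hL.1
  have hM : ClSub.IsInverseOf L M := hM'
  have hMi := isInvertible_inverse hL.1 hM
  obtain ⟨n₀, hv⟩ := vanish_pow k hL hM hdepth
  let m := n₀ + 1
  let σ : O_ ⟶ CohB1.tensorPow L m := InvX.ofSect (AmpleX.powElt (InvX.one s) m)
  have hσ : CohB1.genLocus _ σ = CohB1.genLocus L s := by
    rw [AmpleX.genLocus_eq_locus, InvX.one_ofSect, AmpleX.locus_powElt hL.1, AmpleX.genLocus_eq_locus]
  obtain ⟨φ₀, hφ₀⟩ := exists_powMap hL.1 hM 0 m σ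
  obtain ⟨e⟩ : Nonempty (CohB1.tensorPow M 0 ≅ O_) := ⟨Iso.refl _⟩
  let P := CohB1.tensorPow M (0 + m)
  have hP : PicF.IsInvertible P := InvX.isInvertible_tensorPow hMi _
  let φ : P ⟶ O_ := φ₀ ≫ e.hom
  have hφ : ∀ x, IsoAt φ x ↔ x ∈ CohB1.genLocus L s := fun x => by
    rw [isoAt_comp_iso, hφ₀, hσ]
  haveI : Mono φ := by
    refine AssPtX.mono_of_stalk _ (ProjUPX.isQCoh_of_isInvertible hP) fun x => or_iff_not_imp_right.2 fun h => ?_
    obtain ⟨es⟩ := exists_stalk_iso hP InvX.isInvertible_structureModule x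
    have hxO : Curv2.IsAssPoint O_ x :=
      (isAssPoint_iff_of_iso es).1 (AssPtX.isAssPoint_iff.2 (not_not.1 h))
    have : IsIso ((stk x).map φ) := (hφ x).2 ((isoAt_iff_mem_genLocus hL.1 s x).1 (isoAt_of_mono hL.1 s hxO))
    exact (ConcreteCategory.bijective_of_isIso ((stk x).map φ)).1
  obtain ⟨hv0, hv1⟩ := hv (0 + m) (by omega)
  let Z : Set X := ((CohB1.genLocus L s : X.Opens) : Set X)ᶜ
  have hZ : IsClosed Z := (CohB1.genLocus L s).isOpen.isClosed_compl
  have hnot : ∀ x ∈ Z, ¬ IsoAt φ x := fun x hx h => hx ((hφ x).1 h)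
  refine ⟨?_, ?_⟩
  · refine Set.nonempty_iff_ne_empty.2 fun hZe => ?_
    haveI : IsIso φ := KFlatLib.isIso_of_stalk φ fun x => (hφ x).2
      (by_contra fun h => Set.notMem_empty x (hZe ▸ (h : x ∈ Z)))
    haveI : Subsingleton (Coh.HH X O_ 0) := (CurveCohLib.hhEquiv (k := k) (asIso φ) 0).symm.toEquiv.subsingleton
    have h10 : (1 : Γ(X, ⊤)) = 0 :=
      (Sheaf.H.equiv₀ (Coh.toAb (O_ : X.Modules)) isTerminalTop).symm.injective (Subsingleton.elim _ _)
    have hx := congrArg (X.presheaf.germ ⊤ (Classical.arbitrary X) trivial) h10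
    rw [map_one, map_zero] at hx
    exact one_ne_zero hx
  · rw [isPreconnected_closed_iff]
    intro t t' ht ht' hcov ⟨a, ha, hat⟩ ⟨b, hb, hbt⟩
    by_contra hne
    have hdisj : Disjoint (Z ∩ t) (Z ∩ t') :=
      Set.disjoint_left.2 fun x h h' => hne ⟨x, h.1, h.2, h'.2⟩
    obtain ⟨T, hTA, hTB⟩ := exists_glued φ (hZ.inter ht) (hZ.inter ht') hdisj fun x h h' =>
      (hφ x).2 (by_contra fun hx => (hcov (hx : x ∈ Z)).elim (fun h₁ => h ⟨hx, h₁⟩) fun h₁ => h' ⟨hx, h₁⟩)
    obtain ⟨c, hc⟩ := exists_lift k φ hv1 T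
    have hA := exists_mul_of_germ hP φ (hnot a ha) c 1 (by rw [hc]; exact hTA a ⟨ha, hat⟩)
    have hB := exists_mul_of_germ hP φ (hnot b hb) c 0 (by
      rw [hc, hTB b ⟨hb, hbt⟩]
      show 0 = (cokernel φ).presheaf.germ ⊤ b trivial ((cokernel.π φ).app ⊤ 0)
      rw [map_zero, map_zero])
    rw [map_one] at hA
    rw [map_zero, sub_zero] at hB
    refine isUnit_germ_of_connected k c (a := a) (b := b) (by_contra fun hu => ?_) hB
    have hu' : X.presheaf.germ ⊤ a trivial c ∈ IsLocalRing.maximalIdeal (X.presheaf.stalk a) := hu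
    exact (IsLocalRing.maximalIdeal.isMaximal (X.presheaf.stalk a)).ne_top
      ((Ideal.eq_top_iff_one _).2 (by simpa using Ideal.sub_mem _ hu' hA))

end Field

end Groth.Agent.VarDepth
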