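import Groth.Agent.VarDepth.Basic
import Groth.Agent.CurveCohLib.Euler
import Groth.Agent.AmpleVan.Uniform

/-! Vanishing of sections of very negative twists. -/

noncomputable section

set_option linter.style.haveILetI false
set_option linter.unusedSectionVars false
set_option backward.isDefEq.respectTransparency false
set_option backward.isDefEq.respectTransparency.types false

universe u

open CategoryTheory CategoryTheory.Limits AlgebraicGeometry TopologicalSpace MonoidalCategory
open scoped Pointwise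
open Groth.Agent.PnCoh.Finite (mapLin deltaLin)

namespace Groth.Agent.VarDepth

open Groth.Agent Groth.Agent.H23.PicMul

variable {X : Scheme.{u}}

local notation "O_" => Coh.structureModule X

/-- A sequence of naturals that decreases along a step is eventually periodic. -/
theorem exists_periodic_bound {h : ℕ → ℕ} {N n₀ : ℕ} (hN : 0 < N) (hle : ∀ n, n₀ ≤ n → h (n + N) ≤ h n) :
    ∃ J, n₀ ≤ J ∧ ∀ n, J ≤ n → h (n + N) = h n := by
  classical
  -- in each residue class take an index minimising the values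
  have key : ∀ r, ∃ J, ∀ j, J ≤ j → h (r + (j + 1) * N) = h (r + j * N) := by
    intro r
    have hex : ∃ v, ∃ j, n₀ ≤ j ∧ h (r + j * N) = v := ⟨_, n₀, le_rfl, rfl⟩
    obtain ⟨j₁, hj₁, hmin⟩ := Nat.find_spec hex
    have hstep : ∀ j, j₁ ≤ j → h (r + (j + 1) * N) ≤ h (r + j * N) := fun j hj => by
      rw [show r + (j + 1) * N = r + j * N + N by ring]
      exact hle _ (((hj₁.trans hj).trans (Nat.le_mul_of_pos_right j hN)).trans (Nat.le_add_left _ r))
    have hconst : ∀ j, j₁ ≤ j → h (r + j * N) = h (r + j₁ * N) := fun j hj => by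
      refine le_antisymm ?_ (hmin ▸ Nat.find_min' hex ⟨j, hj₁.trans hj, rfl⟩)
      induction j, hj using Nat.le_induction with
      | base => exact le_rfl
      | succ j hj ih => exact (hstep j hj).trans ih
    exact ⟨j₁, fun j hj => (hconst _ (hj.trans (Nat.le_succ j))).trans (hconst j hj).symm⟩
  choose J hJ using key
  refine ⟨n₀ + ((∑ r ∈ Finset.range N, J r) + 1) * N, Nat.le_add_right _ _, fun n hn => ?_⟩
  have hr : n % N < N := Nat.mod_lt _ hN
  have hJr : J (n % N) ≤ n / N := by
    rw [Nat.le_div_iff_mul_le hN]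
    have h1 := Finset.single_le_sum (f := J) (fun i _ => Nat.zero_le _) (Finset.mem_range.2 hr)
    nlinarith
  have h2 := hJ (n % N) (n / N) hJr
  rwa [show n % N + (n / N + 1) * N = n + N by rw [add_mul, one_mul, ← add_assoc, mul_comm, Nat.mod_add_div],
    mul_comm, Nat.mod_add_div] at h2

theorem exists_assFinite [IsNoetherian X] {F : X.Modules} (hF : Coh.IsCoh F) :
    {x : X | Curv2.IsAssPoint F x}.Finite := by
  refine (AssPtX.finite_assPoints hF (U := ⊤) (by simpa using isCompact_univ)).subset ?_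
  intro x hx
  simp only [Set.mem_setOf_eq]
  exact ⟨trivial, hx⟩

variable (k : Type u) [Field k] [X.Over (Spec (CommRingCat.of k))]
  [IsProper (X ↘ Spec (CommRingCat.of k))] {L M : X.Modules}

include k in
theorem isCoh_twist (hMi : PicF.IsInvertible M) {F : X.Modules} (hF : Coh.IsCoh F) (n : ℕ) :
    Coh.IsCoh ((tl F).obj (CohB1.tensorPow M n)) := by
  haveI := CurveCohLib.isNoetherian_of_proper (k := k) (X := X)
  exact AmpleVan.isCoh_tensor hF (AmpleVan.isCoh_invertible (InvX.isInvertible_tensorPow hMi n))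

include k in
/-- A step down in the negative twists, bijective at the given finitely many points, with affine locus. -/
theorem exists_chi (hL : CohB1.IsAmple L) (hM : ClSub.IsInverseOf L M) {S : Set X} (hS : S.Finite) :
    ∃ (N : ℕ) (χ : CohB1.tensorPow M N ⟶ O_) (U : X.Opens), 0 < N ∧ IsAffineOpen U ∧
      S ⊆ (U : Set X) ∧ ∀ x, IsoAt χ x ↔ x ∈ U := by
  haveI : X.IsSeparated := AmpleVan.isSeparated_of_proper (A := k)
  obtain ⟨n, s, hsS, -, hsa⟩ := AmpleX.exists_finite_nhd hL hS (U := ⊤) (Set.subset_univ _)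
  obtain ⟨φ, hφ⟩ := exists_powMap hL.1 hM 0 (n + 1) s
  obtain ⟨e⟩ : Nonempty (CohB1.tensorPow M (0 + (n + 1)) ≅ CohB1.tensorPow M (n + 1)) :=
    ⟨eqToIso (by rw [Nat.zero_add])⟩
  exact ⟨n + 1, e.inv ≫ φ, CohB1.genLocus _ s, Nat.succ_pos _, hsa, hsS,
    fun x => (isoAt_iso_comp e.symm φ x).trans (hφ x)⟩

/-- The step morphism of twists. -/
def eta {N : ℕ} (χ : CohB1.tensorPow M N ⟶ O_) (G : X.Modules) :
    (tl G).obj (CohB1.tensorPow M N) ⟶ G :=
  (tl G).map χ ≫ AmpleVan.twUnit.hom.app G

theorem eta_natural {N : ℕ} (χ : CohB1.tensorPow M N ⟶ O_) {G G' : X.Modules} (f : G ⟶ G') :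
    (AmpleVan.tw (CohB1.tensorPow M N)).map f ≫ eta χ G' = eta χ G ≫ f := by
  have h1 : (AmpleVan.tw (CohB1.tensorPow M N)).map f ≫ (tl G').map χ =
      (tl G).map χ ≫ (AmpleVan.tw O_).map f := (((DCoh.tensorBi (X := X)).map f).naturality χ).symm
  rw [eta, eta, ← Category.assoc, h1, Category.assoc, Category.assoc]
  exact congrArg _ (AmpleVan.twUnit.hom.naturality f)

theorem exists_twist_iso {F G : X.Modules} {n N : ℕ}
    (h : PicF.cl G = PicF.cl F * PicF.cl M ^ n) :
    Nonempty ((tl G).obj (CohB1.tensorPow M N) ≅ (tl F).obj (CohB1.tensorPow M (n + N))) :=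
  cl_eq_iff.1 (by
    show PicF.cl (CohB1.tensorMod G (CohB1.tensorPow M N)) = PicF.cl (CohB1.tensorMod F (CohB1.tensorPow M (n + N)))
    rw [cl_tensor, cl_tensor, cl_tensorPow, cl_tensorPow, h, pow_add, mul_assoc])

theorem cl_twist (F : X.Modules) (n : ℕ) :
    PicF.cl ((tl F).obj (CohB1.tensorPow M n)) = PicF.cl F * PicF.cl M ^ n := by
  show PicF.cl (CohB1.tensorMod F (CohB1.tensorPow M n)) = _
  rw [cl_tensor, cl_tensorPow]

theorem mono_eta [IsLocallyNoetherian X] (hMi : PicF.IsInvertible M) {N : ℕ}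
    (χ : CohB1.tensorPow M N ⟶ O_) {F : X.Modules} (hF : Coh.IsQCoh F) (n : ℕ)
    (h : ∀ x, Curv2.IsAssPoint F x → IsoAt χ x) :
    Mono (eta χ ((tl F).obj (CohB1.tensorPow M n))) := by
  haveI : Mono ((tl ((tl F).obj (CohB1.tensorPow M n))).map χ) :=
    mono_tensor (KFlatLib.isQCoh_tensor hF (ProjUPX.isQCoh_of_isInvertible (InvX.isInvertible_tensorPow hMi n)))
      (InvX.isInvertible_tensorPow hMi N) InvX.isInvertible_structureModule χ
      fun x hx => h x ((isAssPoint_tensor_iff F (InvX.isInvertible_tensorPow hMi n) x).1 hx)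
  unfold eta
  infer_instance

include k in
theorem hmap_injective_zero {A B : X.Modules} (φ : A ⟶ B) [Mono φ] : Function.Injective (mapLin k φ 0) :=
  CurveCohLib.mapLin_f_zero_injective k (S := ShortComplex.mk φ (cokernel.π φ) (cokernel.condition φ))
    { exact := ShortComplex.exact_of_g_is_cokernel _ (cokernelIsCokernel φ) }

/-- Elements of the image of a step lie deep in the stalk outside the locus. -/
theorem stalk_eta_mem [IsLocallyNoetherian X] (hMi : PicF.IsInvertible M) {N : ℕ}
    (χ : CohB1.tensorPow M N ⟶ O_) (G : X.Modules) {z : X} (hz : ¬ IsoAt χ z) (i : ℕ)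
    (m : (stk z).obj ((tl G).obj (CohB1.tensorPow M N)))
    (hm : m ∈ IsLocalRing.maximalIdeal (X.presheaf.stalk z) ^ i •
      (⊤ : Submodule (X.presheaf.stalk z) ((stk z).obj ((tl G).obj (CohB1.tensorPow M N))))) :
    (stk z).map (eta χ G) m ∈ IsLocalRing.maximalIdeal (X.presheaf.stalk z) ^ (i + 1) •
      (⊤ : Submodule (X.presheaf.stalk z) ((stk z).obj G)) := by
  obtain ⟨g, θ, hg, hiff⟩ := exists_tensor_coord G (InvX.isInvertible_tensorPow hMi N)
    InvX.isInvertible_structureModule χ z
  have hgm : g ∈ IsLocalRing.maximalIdeal (X.presheaf.stalk z) := fun h => hz (hiff.2 h)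
  let v := (θ.hom ≫ (stk z).map (AmpleVan.twUnit.hom.app G)).hom
  have h1 : (stk z).map (eta χ G) m = g • v m := by
    rw [eta, Functor.map_comp, show (stk z).map ((tl G).map χ) = g • θ.hom from hg]
    show ((stk z).map (AmpleVan.twUnit.hom.app G)).hom (g • θ.hom.hom m) = _
    rw [map_smul]
    rfl
  rw [h1, pow_succ', ← smul_eq_mul, Submodule.smul_assoc]
  refine Submodule.smul_mem_smul hgm ?_
  have h2 := Submodule.mem_map_of_mem (f := v) hm
  rw [Submodule.map_smul''] at h2
  exact Submodule.smul_mono le_rfl le_top h2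

include k in
/-- Sections of very negative twists vanish when no closed point is associated. -/
theorem h0_vanish (hL : CohB1.IsAmple L) (hM : ClSub.IsInverseOf L M) {F : X.Modules} (hF : Coh.IsCoh F)
    (hass : ∀ x : X, IsClosed ({x} : Set X) → ¬ Curv2.IsAssPoint F x) :
    ∃ n₀ : ℕ, ∀ n : ℕ, n₀ ≤ n → Subsingleton (Coh.HH X ((tl F).obj (CohB1.tensorPow M n)) 0) := by
  classical
  haveI := CurveCohLib.isNoetherian_of_proper (k := k) (X := X)
  have hMi := isInvertible_inverse hL.1 hM
  obtain ⟨N, χ, U, hN, hUa, hSU, hχ⟩ := exists_chi k hL hM (exists_assFinite hF)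
  let G : ℕ → X.Modules := fun n => (tl F).obj (CohB1.tensorPow M n)
  have he : ∀ n, Nonempty ((tl (G n)).obj (CohB1.tensorPow M N) ≅ G (n + N)) :=
    fun n => exists_twist_iso (cl_twist F n)
  let e := fun n => (he n).some
  let ρ : ∀ n, G (n + N) ⟶ G n := fun n => (e n).inv ≫ eta χ (G n)
  haveI hρ : ∀ n, Mono (ρ n) := fun n => by
    haveI := mono_eta hMi χ hF.1 n fun x hx => (hχ x).2 (hSU hx)
    exact mono_comp _ _
  let h : ℕ → ℕ := fun n => Module.finrank k (Coh.HH X (G n) 0)
  have hfin : ∀ n, Module.Finite k (Coh.HH X (G n) 0) := fun n =>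
    CurveCohLib.finite_HH (isCoh_twist k hMi hF n) 0
  have hle : ∀ n, 0 ≤ n → h (n + N) ≤ h n := fun n _ => by
    haveI := hfin n
    exact LinearMap.finrank_le_finrank_of_injective (hmap_injective_zero k (ρ n))
  obtain ⟨J, -, hJ⟩ := exists_periodic_bound hN hle
  have hsurj : ∀ n, J ≤ n → Function.Surjective (mapLin k (ρ n) 0) := fun n hn => by
    haveI := hfin n
    haveI := hfin (n + N)
    exact (LinearMap.injective_iff_surjective_of_finrank_eq_finrank (hJ n hn)).1
      (hmap_injective_zero k (ρ n))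
  refine ⟨J, fun n hn => subsingleton_of_forall_eq 0 fun y => ?_⟩
  let sec : ∀ n, Coh.HH X (G n) 0 → Γ(G n, ⊤) := fun n y =>
    Sheaf.H.equiv₀ (Coh.toAb (G n)) isTerminalTop y
  have hdeep : ∀ (i : ℕ) (n : ℕ), J ≤ n → ∀ (z : X), z ∉ U → ∀ y : Coh.HH X (G n) 0,
      ((G n).presheaf.germ ⊤ z trivial (sec n y) : (stk z).obj (G n)) ∈
        IsLocalRing.maximalIdeal (X.presheaf.stalk z) ^ i •
          (⊤ : Submodule (X.presheaf.stalk z) ((stk z).obj (G n))) := by
    intro i
    induction i with
    | zero => intro n _ z _ y; rw [pow_zero, Ideal.one_eq_top, Submodule.top_smul]; trivial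
    | succ i ih =>
      intro n hn z hz y
      obtain ⟨y', hy'⟩ := hsurj n hn y
      have hnat : (ρ n).app ⊤ (sec (n + N) y') = sec n y := by
        rw [← hy']
        exact Sheaf.H.equiv₀_naturality isTerminalTop ((QCoh.toAbFunctor X).map (ρ n)) y'
      rw [← hnat]
      erw [← DerSch.stalkFunctor_map_germ z (ρ n) ⊤ trivial (sec (n + N) y')]
      show ((stk z).map ((e n).inv ≫ eta χ (G n))) _ ∈ _
      rw [Functor.map_comp]
      refine stalk_eta_mem hMi χ (G n) (fun h => hz ((hχ z).1 h)) i _ ?_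
      have h2 := Submodule.mem_map_of_mem (f := ((stk z).map (e n).inv).hom) (ih (n + N)
        (hn.trans (Nat.le_add_right n N)) z hz y')
      rw [Submodule.map_smul''] at h2
      exact Submodule.smul_mono le_rfl le_top h2
  have hzero : ∀ z, z ∉ U → (G n).presheaf.germ ⊤ z trivial (sec n y) = 0 := fun z hz => by
    haveI : Module.Finite (X.presheaf.stalk z) ((stk z).obj (G n)) := by
      haveI : SheafOfModules.IsFiniteType (R := X.ringCatSheaf) (G n) := (isCoh_twist k hMi hF n).2
      exact FDescent.finite_stalk (G n) z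
    have h1 : ((G n).presheaf.germ ⊤ z trivial (sec n y) : (stk z).obj (G n)) ∈
        (⊥ : Submodule (X.presheaf.stalk z) ((stk z).obj (G n))) := by
      rw [← Ideal.iInf_pow_smul_eq_bot_of_isLocalRing (M := (stk z).obj (G n))
        (IsLocalRing.maximalIdeal (X.presheaf.stalk z)) (IsLocalRing.maximalIdeal.isMaximal _).ne_top]
      exact (Submodule.mem_iInf _).2 fun i => hdeep i n hn z hz y
    exact h1
  let C : Set X := {z | (G n).presheaf.germ ⊤ z trivial (sec n y) ≠ 0}
  have hC : IsClosed C := by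
    rw [← isOpen_compl_iff, isOpen_iff_forall_mem_open]
    intro z hz
    have hz0 : (G n).presheaf.germ ⊤ z trivial (sec n y) = (G n).presheaf.germ ⊤ z trivial 0 :=
      (not_not.1 hz).trans (map_zero _).symm
    obtain ⟨W, hzW, i, i', hi⟩ := TopCat.Presheaf.germ_eq (C := AddCommGrpCat.{u}) (G n).presheaf (U := ⊤) (V := ⊤) z
      trivial trivial _ _ hz0
    refine ⟨W, fun w hw => not_not.2 ?_, W.2, hzW⟩
    have h4 := congrArg ((G n).presheaf.germ W w hw) hi
    rw [(G n).presheaf.germ_res_apply, (G n).presheaf.germ_res_apply] at h4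
    exact h4.trans (map_zero _)
  have hCU : C ⊆ (U : Set X) := fun z hz => by_contra fun h => hz (hzero z h)
  have hpts := (finite_of_subset_affine k hUa hC hCU).2
  have h0 : sec n y = 0 := by
    refine AssPtX.eq_zero_of_germ (isCoh_twist k hMi hF n).1 _ fun z _ hza => by_contra fun hne => ?_
    exact hass z (hpts z hne)
      ((isAssPoint_tensor_iff F (InvX.isInvertible_tensorPow hMi n) z).1 (AssPtX.isAssPoint_iff.2 hza))
  apply (Sheaf.H.equiv₀ (Coh.toAb (G n)) isTerminalTop).injective
  rw [map_zero]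
  exact h0

end Groth.Agent.VarDepth
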