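import Groth.Agent.VarDepth.Vanish
import Groth.Agent.CurveCohLib.Skyscraper

/-! Vanishing of first cohomology of very negative twists in depth two. -/

noncomputable section

set_option linter.style.haveILetI false
set_option linter.unusedSectionVars false
set_option backward.isDefEq.respectTransparency false
set_option backward.isDefEq.respectTransparency.types false

universe u

open CategoryTheory CategoryTheory.Limits AlgebraicGeometry TopologicalSpace MonoidalCategory
open scoped Pointwise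
open Groth.Agent.PnCoh.Finite (mapLin deltaLin)

namespace Groth.Agent.VarDepth

open Groth.Agent Groth.Agent.H23.PicMul

variable {X : Scheme.{u}}

local notation "O_" => Coh.structureModule X

theorem additive_stk (z : X) : (stk z).Additive :=
  Functor.additive_of_preserves_binary_products _

/-- Isomorphism at a point spreads to generisations. -/
theorem isoAt_of_specializes [IsLocallyNoetherian X] {A B : X.Modules} (hA : PicF.IsInvertible A)
    (hB : PicF.IsInvertible B) (φ : A ⟶ B) {x z : X} (hxz : x ⤳ z) (hz : IsoAt φ z) : IsoAt φ x := by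
  have hC : Coh.IsCoh (cokernel φ) :=
    QCoh.isCoh_cokernel (AmpleVan.isCoh_invertible hA).1 (AmpleVan.isCoh_invertible hB) φ
  let S := ShortComplex.mk φ (cokernel.π φ) (cokernel.condition φ)
  have hex := (KFlatLib.exact_iff_stalk _).1
    (ShortComplex.exact_of_g_is_cokernel S (cokernelIsCokernel φ))
  have hz' : z ∉ CohB1.support (cokernel φ) := fun hs => hs (subsingleton_of_forall_eq 0 fun c => by
    obtain ⟨b, hb⟩ := (ModuleCat.epi_iff_surjective ((stk z).map (cokernel.π φ))).1 inferInstance c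
    haveI : IsIso ((stk z).map φ) := hz
    obtain ⟨a, rfl⟩ := (ConcreteCategory.bijective_of_isIso ((stk z).map φ)).2 b
    rw [← hb, ← ConcreteCategory.comp_apply, ← Functor.map_comp, cokernel.condition]
    haveI := additive_stk z
    rw [Functor.map_zero]
    rfl)
  have hx : x ∉ CohB1.support (cokernel φ) := fun hx => hz'
    ((QCoh.isClosed_support_of_isFT hC.1 hC.2).closure_subset_iff.2 (Set.singleton_subset_iff.2 hx)
      (specializes_iff_mem_closure.1 hxz))
  refine isoAt_of_surjective hA hB φ fun b => ?_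
  exact (ShortComplex.moduleCat_exact_iff _).1 (hex x) b ((not_not.1 hx).elim _ _)

section Field

variable (k : Type u) [Field k] [X.Over (Spec (CommRingCat.of k))]

theorem stk_map_smulMod (B : X.Modules) (c : k) (z : X) (m : (stk z).obj B) :
    (stk z).map (Formal.smulMod k B c) m = Curv2.stalkMap k X z c • m := by
  obtain ⟨V, hzV, r, rfl⟩ := B.presheaf.exists_germ_eq m
  refine (DerSch.stalkFunctor_map_germ z (Formal.smulMod k B c) V hzV r).trans ?_
  refine (QCoh.germ_smul' B (hx := hzV) _ _).trans ?_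
  refine congrArg (· • _) ?_
  exact X.presheaf.germ_res_apply (homOfLE (le_top : V ≤ ⊤)) z hzV _

/-- A combination of maps of invertible modules is bijective where exactly one of them is. -/
theorem isoAt_sum {A B : X.Modules} (hA : PicF.IsInvertible A) (hB : PicF.IsInvertible B) {ι : Type*}
    [Fintype ι] (φ : ι → (A ⟶ B)) (v : ι → k) (z : X) (i₀ : ι) (h₀ : IsoAt (φ i₀) z) (hv : v i₀ ≠ 0)
    (h : ∀ i, i ≠ i₀ → ¬ IsoAt (φ i) z) :
    IsoAt (∑ i, φ i ≫ Formal.smulMod k B (v i)) z := by
  classical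
  refine isoAt_of_surjective hA hB _ ?_
  haveI := additive_stk z
  haveI : IsIso ((stk z).map (φ i₀)) := h₀
  obtain ⟨b, hb⟩ := exists_gen hB z
  have hu : IsUnit (Curv2.stalkMap k X z (v i₀)) := (Ne.isUnit hv).map _
  obtain ⟨m, hm⟩ := (ConcreteCategory.bijective_of_isIso ((stk z).map (φ i₀))).2
    ((↑(hu.unit⁻¹) : X.presheaf.stalk z) • b)
  let 𝔪 := IsLocalRing.maximalIdeal (X.presheaf.stalk z)
  have hterm : ∀ i, i ≠ i₀ → (stk z).map (φ i ≫ Formal.smulMod k B (v i)) m ∈
      𝔪 • (⊤ : Submodule (X.presheaf.stalk z) ((stk z).obj B)) := fun i hi => by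
    obtain ⟨g, β, hg, hiff⟩ := exists_coord hA hB (φ i) z
    rw [Functor.map_comp, ConcreteCategory.comp_apply, stk_map_smulMod, hg]
    refine Submodule.smul_mem _ _ ?_
    show g • β.hom m ∈ _
    exact Submodule.smul_mem_smul (fun hu => h i hi (hiff.2 hu)) trivial
  have htop : (⊤ : Submodule (X.presheaf.stalk z) ((stk z).obj B)) = Submodule.span _ {b} :=
    (eq_top_iff.2 fun y _ => by
      obtain ⟨c, rfl⟩ := hb.2 y
      exact Submodule.smul_mem _ c (Submodule.subset_span rfl)).symm
  obtain ⟨q, hq, hqb⟩ : ∃ q ∈ 𝔪, q • b =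
      ∑ i ∈ Finset.univ.erase i₀, (stk z).map (φ i ≫ Formal.smulMod k B (v i)) m := by
    rw [← Submodule.mem_smul_span_singleton, ← htop]
    exact Submodule.sum_mem _ fun i hi => hterm i (Finset.ne_of_mem_erase hi)
  have hsum : (stk z).map (∑ i, φ i ≫ Formal.smulMod k B (v i)) m = (1 + q) • b := by
    rw [Functor.map_sum]
    show (∑ i, (stk z).map (φ i ≫ Formal.smulMod k B (v i))).hom m = _
    rw [ModuleCat.hom_sum, LinearMap.sum_apply, ← Finset.add_sum_erase _ _ (Finset.mem_univ i₀),
      add_smul, one_smul]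
    refine congrArg₂ (· + ·) ?_ hqb.symm
    rw [Functor.map_comp]
    refine (stk_map_smulMod k B (v i₀) z _).trans ?_
    show Curv2.stalkMap k X z (v i₀) • ((stk z).map (φ i₀)) m = b
    rw [hm, smul_smul, IsUnit.mul_val_inv, one_smul]
  have hu' : IsUnit (1 + q) := by
    rcases IsLocalRing.isUnit_or_isUnit_one_sub_self (-q) with hn | hn
    · exact absurd (IsUnit.neg_iff q |>.1 hn) hq
    · rwa [sub_neg_eq_add] at hn
  intro y
  obtain ⟨c, rfl⟩ := hb.2 y
  refine ⟨(c * ↑(hu'.unit⁻¹)) • m, ?_⟩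
  rw [map_smul, hsum, smul_smul, mul_assoc, IsUnit.val_inv_mul, mul_one]

variable [IsProper (X ↘ Spec (CommRingCat.of k))] {L M : X.Modules}

include k in
/-- Finitely many disjoint groups of closed specialisations. -/
theorem exists_groups (S : Finset X) (hS : ∀ x ∈ S, ¬ IsClosed ({x} : Set X)) (m : ℕ) :
    ∃ P : X → Finset X, (∀ x ∈ S, (P x).card = m ∧ ∀ z ∈ P x, IsClosed ({z} : Set X) ∧ x ⤳ z) ∧
      ∀ x ∈ S, ∀ y ∈ S, x ≠ y → Disjoint (P x) (P y) := by
  classical
  have grow : ∀ (x : X), ¬ IsClosed ({x} : Set X) → ∀ (j : ℕ) (T : Finset X),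
      ∃ Q : Finset X, Q.card = j ∧ Disjoint Q T ∧ ∀ z ∈ Q, IsClosed ({z} : Set X) ∧ x ⤳ z := by
    intro x hx j
    induction j with
    | zero => exact fun T => ⟨∅, rfl, Finset.disjoint_empty_left _, by simp⟩
    | succ j ih =>
      intro T
      obtain ⟨z, hz, hxz, hzT⟩ := exists_closed_point_avoiding k hx T
      obtain ⟨Q, hQ, hQT, hQz⟩ := ih (insert z T)
      rw [Finset.disjoint_insert_right] at hQT
      refine ⟨insert z Q, by rw [Finset.card_insert_of_notMem hQT.1, hQ],
        Finset.disjoint_insert_left.2 ⟨hzT, hQT.2⟩, fun w hw => ?_⟩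
      rcases Finset.mem_insert.1 hw with rfl | hw
      · exact ⟨hz, hxz⟩
      · exact hQz w hw
  induction S using Finset.induction with
  | empty => exact ⟨fun _ => ∅, by simp, by simp⟩
  | @insert a S ha ih =>
    obtain ⟨P, hP, hPd⟩ := ih fun x hx => hS x (Finset.mem_insert_of_mem hx)
    obtain ⟨Q, hQ, hQT, hQz⟩ := grow a (hS a (Finset.mem_insert_self _ _)) m (S.biUnion P)
    rw [Finset.disjoint_biUnion_right] at hQT
    refine ⟨Function.update P a Q, fun x hx => ?_, fun x hx y hy hxy => ?_⟩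
    · rcases Finset.mem_insert.1 hx with hxa | hx
      · rw [hxa, Function.update_self]; exact ⟨hQ, hQz⟩
      · rw [Function.update_of_ne (ne_of_mem_of_not_mem hx ha)]; exact hP x hx
    · rcases Finset.mem_insert.1 hx with hxa | hx <;> rcases Finset.mem_insert.1 hy with hya | hy
      · exact absurd (hxa.trans hya.symm) hxy
      · rw [hxa, Function.update_self, Function.update_of_ne (ne_of_mem_of_not_mem hy ha)]
        exact hQT y hy
      · rw [hya, Function.update_self, Function.update_of_ne (ne_of_mem_of_not_mem hx ha)]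
        exact (hQT x hx).symm
      · rw [Function.update_of_ne (ne_of_mem_of_not_mem hx ha),
          Function.update_of_ne (ne_of_mem_of_not_mem hy ha)]
        exact hPd x hx y hy hxy

include k in
/-- Sections separating finitely many closed points, in a common degree divisible by `N`. -/
theorem exists_separating (hL : CohB1.IsAmple L) (T : Finset X) (hT : ∀ z ∈ T, IsClosed ({z} : Set X))
    {N : ℕ} (hN : 0 < N) :
    ∃ (j : ℕ) (σ : X → (O_ ⟶ CohB1.tensorPow L (N * j))),
      ∀ z ∈ T, z ∈ CohB1.genLocus _ (σ z) ∧ ∀ w ∈ T, w ≠ z → w ∉ CohB1.genLocus _ (σ z) := by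
  classical
  haveI : X.IsSeparated := AmpleVan.isSeparated_of_proper (A := k)
  have hex : ∀ z : T, ∃ (a : ℕ) (s : O_ ⟶ CohB1.tensorPow L (a + 1)),
      z.1 ∈ CohB1.genLocus _ s ∧ ∀ w ∈ T, w ≠ z.1 → w ∉ CohB1.genLocus _ s := fun z => by
    have hcl : IsClosed (((T.erase z.1 : Finset X)) : Set X) := by
      rw [← Set.biUnion_of_singleton ((T.erase z.1 : Finset X) : Set X)]
      exact Set.Finite.isClosed_biUnion (T.erase z.1).finite_toSet
        fun w hw => hT w (Finset.mem_of_mem_erase hw)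
    obtain ⟨a, s, hs1, hs2, -⟩ := AmpleX.exists_finite_nhd hL (Set.finite_singleton z.1)
      (U := ⟨_, hcl.isOpen_compl⟩) (Set.singleton_subset_iff.2 fun h => (Finset.notMem_erase z.1 T) h)
    exact ⟨a, s, hs1 rfl, fun w hw hne hws => hs2 hws (Finset.mem_erase.2 ⟨hne, hw⟩)⟩
  choose a s hs1 hs2 using hex
  let D := ∏ z : T, (a z + 1)
  have hD : ∀ z : T, ∃ σ : O_ ⟶ CohB1.tensorPow L (N * D),
      CohB1.genLocus _ σ = CohB1.genLocus _ (s z) := fun z => by
    obtain ⟨c, hc⟩ : (a z + 1) ∣ N * D :=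
      dvd_mul_of_dvd_right (Finset.dvd_prod_of_mem _ (Finset.mem_univ z)) N
    have hc0 : 0 < c := Nat.pos_of_ne_zero fun h0 => by
      rw [h0, mul_zero] at hc
      exact (Nat.mul_pos hN (Finset.prod_pos fun z _ => Nat.succ_pos (a z))).ne' hc
    obtain ⟨t, ht⟩ := AmpleX.exists_pow_section hL.1 (InvX.one (s z)) hc0
    rw [hc]
    refine ⟨InvX.ofSect t, ?_⟩
    rw [AmpleX.genLocus_eq_locus, InvX.one_ofSect, ht, AmpleX.genLocus_eq_locus]
  choose σ hσ using hD
  refine ⟨D, fun z => if hz : z ∈ T then σ ⟨z, hz⟩ else 0, fun z hz => ?_⟩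
  simp only [dif_pos hz, hσ]
  exact ⟨hs1 ⟨z, hz⟩, hs2 ⟨z, hz⟩⟩

include k in
theorem h1_injective_of_cokernel {A B : X.Modules} (f : A ⟶ B) [Mono f]
    (h : Subsingleton (Coh.HH X (cokernel f) 0)) : Function.Injective (mapLin k f 1) := by
  let S := ShortComplex.mk f (cokernel.π f) (cokernel.condition f)
  have hS : S.ShortExact := { exact := ShortComplex.exact_of_g_is_cokernel _ (cokernelIsCokernel f) }
  rw [← LinearMap.ker_eq_bot]
  refine (CurveCohLib.ker_mapLin_f_succ k hS 0).trans (LinearMap.range_eq_bot.2 ?_)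
  haveI : Subsingleton (Coh.HH X S.X₃ 0) := h
  exact LinearMap.ext fun y => by rw [Subsingleton.elim y 0, map_zero]; rfl

include k in
/-- First cohomology of very negative twists vanishes in depth two. -/
theorem h1_vanish (hL : CohB1.IsAmple L) (hM : ClSub.IsInverseOf L M) {F : X.Modules} (hF : Coh.IsCoh F)
    (hdepth : ∀ x : X, IsClosed ({x} : Set X) →
      2 ≤ LocCoh.depth (X.presheaf.stalk x) ((stk x).obj F)) :
    ∃ n₀ : ℕ, ∀ n : ℕ, n₀ ≤ n → Subsingleton (Coh.HH X ((tl F).obj (CohB1.tensorPow M n)) 1) := by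
  classical
  haveI := CurveCohLib.isNoetherian_of_proper (k := k) (X := X)
  have hMi := isInvertible_inverse hL.1 hM
  have hass : ∀ x : X, IsClosed ({x} : Set X) → ¬ Curv2.IsAssPoint F x := fun x hx =>
    not_isAssPoint_of_depth hF (le_trans (by decide) (hdepth x hx))
  obtain ⟨N, χ, U, hN, -, hSU, hχ⟩ := exists_chi k hL hM (exists_assFinite hF)
  have hMN := InvX.isInvertible_tensorPow hMi N
  haveI : Mono ((tl F).map χ) := mono_tensor hF.1 hMN InvX.isInvertible_structureModule χ
    fun x hx => (hχ x).2 (hSU hx)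
  have hFC : Coh.IsCoh ((tl F).obj (cokernel χ)) := AmpleVan.isCoh_tensor hF
    (QCoh.isCoh_cokernel (AmpleVan.isCoh_invertible hMN).1 QCoh.isCoh_structureModule' χ)
  obtain ⟨n₁, hn₁⟩ := h0_vanish k hL hM hFC fun x hx h =>
    not_isAssPoint_cokernel hF hMN InvX.isInvertible_structureModule χ x (hdepth x hx)
      ((isAssPoint_iff_of_iso ((stk x).mapIso (nonempty_cokernel_tl F χ).some)).2 h)
  -- steps are injective on first cohomology
  have hinj : ∀ (G : X.Modules) (n : ℕ), n₁ ≤ n → PicF.cl G = PicF.cl F * PicF.cl M ^ n →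
      Function.Injective (mapLin k (eta χ G) 1) := by
    intro G n hn hG
    obtain ⟨eG⟩ : Nonempty (G ≅ (tl F).obj (CohB1.tensorPow M n)) :=
      cl_eq_iff.1 (hG.trans (cl_twist F n).symm)
    haveI : Mono ((tl G).map χ) := mono_tensor
      ((QCoh.isQCoh_iff_iso eG).2 (isCoh_twist k hMi hF n).1) hMN InvX.isInvertible_structureModule χ
      fun x hx => (hχ x).2 (hSU ((isAssPoint_tensor_iff F (InvX.isInvertible_tensorPow hMi n) x).1
        ((isAssPoint_iff_of_iso ((stk x).mapIso eG)).1 hx)))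
    obtain ⟨e⟩ : Nonempty (cokernel ((tl G).map χ) ≅
        (tl ((tl F).obj (cokernel χ))).obj (CohB1.tensorPow M n)) := cl_eq_iff.1 (by
      rw [cokernel_cl_tl, cl_twist, hG]
      show _ = PicF.cl (CohB1.tensorMod F (cokernel χ)) * _
      rw [cl_tensor, mul_right_comm])
    haveI := hn₁ n hn
    have h0 : Subsingleton (Coh.HH X (cokernel ((tl G).map χ)) 0) :=
      (CurveCohLib.hhEquiv (k := k) e 0).toEquiv.subsingleton
    unfold eta
    rw [hmap_comp]
    exact (CurveCohLib.hhEquiv (k := k) (AmpleVan.twUnit.app G) 1).injective.comp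
      (h1_injective_of_cokernel k _ h0)
  let G : ℕ → X.Modules := fun n => (tl F).obj (CohB1.tensorPow M n)
  let h : ℕ → ℕ := fun n => Module.finrank k (Coh.HH X (G n) 1)
  have hfin : ∀ n, Module.Finite k (Coh.HH X (G n) 1) := fun n =>
    CurveCohLib.finite_HH (isCoh_twist k hMi hF n) 1
  have hle : ∀ n, n₁ ≤ n → h (n + N) ≤ h n := fun n hn => by
    haveI := hfin n
    obtain ⟨e⟩ := exists_twist_iso (N := N) (cl_twist (M := M) F n)
    exact LinearMap.finrank_le_finrank_of_injective
      (f := (mapLin k (eta χ (G n)) 1).comp (mapLin k e.inv 1))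
      ((hinj (G n) n hn (cl_twist F n)).comp (CurveCohLib.hhEquiv (k := k) e.symm 1).injective)
  obtain ⟨J, hJ₁, hJ⟩ := exists_periodic_bound hN hle
  have hper : ∀ n, J ≤ n → ∀ j, h (n + N * j) = h n := fun n hn j => by
    induction j with
    | zero => simp
    | succ j ih =>
      rw [show n + N * (j + 1) = n + N * j + N by ring, hJ _ (hn.trans (Nat.le_add_right _ _)), ih]
  refine ⟨J, fun n hn => ?_⟩
  haveI := hfin n
  refine Module.finrank_zero_iff.1 (show h n = 0 from ?_)
  -- many closed points in the closures of the associated points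
  let S := (exists_assFinite hF).toFinset
  have hS : ∀ x ∈ S, ¬ IsClosed ({x} : Set X) := fun x hx hc => hass x hc ((exists_assFinite hF).mem_toFinset.1 hx)
  let e₀ := h n * h n
  obtain ⟨P, hP, hPd⟩ := exists_groups k S hS (e₀ + 1)
  let T := S.biUnion P
  have hT : ∀ z ∈ T, IsClosed ({z} : Set X) := fun z hz => by
    obtain ⟨x, hx, hz⟩ := Finset.mem_biUnion.1 hz
    exact ((hP x hx).2 z hz).1
  obtain ⟨j, σ, hσ⟩ := exists_separating k hL T hT hN
  have hφex : ∀ z : T, ∃ φ : CohB1.tensorPow M (n + N * j) ⟶ CohB1.tensorPow M n,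
      ∀ w, IsoAt φ w ↔ w ∈ CohB1.genLocus _ (σ z.1) := fun z => exists_powMap hL.1 hM n (N * j) (σ z.1)
  choose φ hφ using hφex
  haveI := hfin (n + N * j)
  let E := Coh.HH X (G (n + N * j)) 1 →ₗ[k] Coh.HH X (G n) 1
  let Lm : (T → k) →ₗ[k] E := Fintype.linearCombination k fun z => mapLin k ((tl F).map (φ z)) 1
  have hEdim : Module.finrank k E = e₀ := by
    rw [Module.finrank_linearMap]
    show h (n + N * j) * h n = h n * h n
    rw [hper n hn j]
  have hvx : ∀ x ∈ S, ∃ v : T → k, (∃ z, v z ≠ 0) ∧ (∀ z : T, z.1 ∉ P x → v z = 0) ∧ Lm v = 0 := by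
    intro x hx
    have hincl : ∀ z : P x, z.1 ∈ T := fun z => Finset.mem_biUnion.2 ⟨x, hx, z.2⟩
    let ι : P x → T := fun z => ⟨z.1, hincl z⟩
    have hι : Function.Injective ι := fun a b hab => Subtype.ext (congrArg (fun t : T => t.1) hab)
    let emb : (P x → k) →ₗ[k] (T → k) :=
      { toFun := fun v => Function.extend ι v 0
        map_add' := fun v w => funext fun z => by
          by_cases hz : ∃ a, ι a = z
          · obtain ⟨a, rfl⟩ := hz
            simp [hι.extend_apply]
          · simp [Function.extend_apply' _ _ _ hz]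
        map_smul' := fun c v => funext fun z => by
          by_cases hz : ∃ a, ι a = z
          · obtain ⟨a, rfl⟩ := hz
            simp [hι.extend_apply]
          · simp [Function.extend_apply' _ _ _ hz] }
    obtain ⟨v, hv, hv0⟩ := Submodule.exists_mem_ne_zero_of_ne_bot
      (LinearMap.ker_ne_bot_of_finrank_lt (f := Lm.comp emb)
        (by rw [hEdim, Module.finrank_fintype_fun_eq_card, Fintype.card_coe, (hP x hx).1]
            exact Nat.lt_succ_self _))
    refine ⟨emb v, ?_, fun z hz => ?_, LinearMap.mem_ker.1 hv⟩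
    · obtain ⟨a, ha⟩ := Function.ne_iff.1 hv0
      refine ⟨ι a, ?_⟩
      show Function.extend ι v 0 (ι a) ≠ 0
      rw [hι.extend_apply]
      exact ha
    · show Function.extend ι v 0 z = 0
      rw [Function.extend_apply' _ _ _ fun ⟨a, ha⟩ => hz (ha ▸ a.2)]
      rfl
  choose! v hv1 hv2 hv3 using hvx
  let w : T → k := ∑ x ∈ S, v x
  let Φ : CohB1.tensorPow M (n + N * j) ⟶ CohB1.tensorPow M n :=
    ∑ z, φ z ≫ Formal.smulMod k _ (w z)
  have hΦass : ∀ x, Curv2.IsAssPoint F x → IsoAt Φ x := by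
    intro x hx
    have hxS : x ∈ S := (exists_assFinite hF).mem_toFinset.2 hx
    obtain ⟨z, hz⟩ := hv1 x hxS
    have hzP : z.1 ∈ P x := by_contra fun h' => hz (hv2 x hxS z h')
    have hwz : w z = v x z := by
      rw [show w z = ∑ y ∈ S, v y z from Finset.sum_apply _ _ _]
      refine Finset.sum_eq_single x (fun y hy hne => hv2 y hy z fun h' => ?_) (fun h' => absurd hxS h')
      exact Finset.disjoint_left.1 (hPd y hy x hxS hne) h' hzP
    refine isoAt_of_specializes (InvX.isInvertible_tensorPow hMi _) (InvX.isInvertible_tensorPow hMi _) Φ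
      ((hP x hxS).2 z.1 hzP).2 ?_
    refine isoAt_sum k (InvX.isInvertible_tensorPow hMi _) (InvX.isInvertible_tensorPow hMi _) φ w z.1 z
      ((hφ z z.1).2 (hσ z.1 z.2).1) (hwz ▸ hz) fun y hy hiso => ?_
    exact (hσ y.1 y.2).2 z.1 z.2 (fun h' => hy (Subtype.ext h'.symm)) ((hφ y z.1).1 hiso)
  have hΦ0 : mapLin k ((tl F).map Φ) 1 = 0 := by
    haveI := additive_tl F
    have h1 : Lm w = 0 := by
      rw [map_sum]
      exact Finset.sum_eq_zero fun x hx => hv3 x hx
    rw [← h1, Functor.map_sum]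
    refine (map_sum (hmapHom k _ _ 1) _ _).trans ?_
    rw [Fintype.linearCombination_apply]
    refine Finset.sum_congr rfl fun z _ => ?_
    show mapLin k ((tl F).map (φ z ≫ Formal.smulMod k _ (w z))) 1 = _
    rw [Functor.map_comp, tl_map_smulMod, hmap_comp]
    exact LinearMap.ext fun y => hmap_smulMod k _ _ 1 _
  haveI : Mono ((tl F).map Φ) := mono_tensor hF.1 (InvX.isInvertible_tensorPow hMi _)
    (InvX.isInvertible_tensorPow hMi _) Φ hΦass
  have hC' : Coh.IsCoh (cokernel ((tl F).map Φ)) :=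
    QCoh.isCoh_cokernel (isCoh_twist k hMi hF _).1 (isCoh_twist k hMi hF n) _
  obtain ⟨n₂, hn₂⟩ := h0_vanish k hL hM hC' fun x hx =>
    not_isAssPoint_cokernel hF (InvX.isInvertible_tensorPow hMi _) (InvX.isInvertible_tensorPow hMi _) Φ x
      (hdepth x hx)
  -- transfer down the steps
  have key : ∀ i, ∃ (Y Y' : X.Modules) (g : Y ⟶ Y'), Mono g ∧
      PicF.cl Y = PicF.cl F * PicF.cl M ^ (n + N * j + N * i) ∧
      PicF.cl Y' = PicF.cl F * PicF.cl M ^ (n + N * i) ∧
      PicF.cl (cokernel g) = PicF.cl (cokernel ((tl F).map Φ)) * PicF.cl M ^ (N * i) ∧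
      mapLin k g 1 = 0 := by
    intro i
    induction i with
    | zero =>
      exact ⟨_, _, (tl F).map Φ, inferInstance, by rw [mul_zero, add_zero]; exact cl_twist F _,
        by rw [mul_zero, add_zero]; exact cl_twist F _, by rw [mul_zero, pow_zero, mul_one], hΦ0⟩
    | succ i ih =>
      obtain ⟨Y, Y', g, hg, hY, hY', hC, hg0⟩ := ih
      haveI := AmpleVan.isEquivalence_tw hMN
      haveI := additive_tw (CohB1.tensorPow M N)
      let T' := AmpleVan.tw (CohB1.tensorPow M N)
      refine ⟨T'.obj Y, T'.obj Y', T'.map g, inferInstance, ?_, ?_, ?_, ?_⟩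
      · show PicF.cl (CohB1.tensorMod Y (CohB1.tensorPow M N)) = _
        rw [cl_tensor, cl_tensorPow, hY, mul_assoc, ← pow_add]
        congr 2
        ring
      · show PicF.cl (CohB1.tensorMod Y' (CohB1.tensorPow M N)) = _
        rw [cl_tensor, cl_tensorPow, hY', mul_assoc, ← pow_add]
        congr 2
        ring
      · rw [cl_eq_iff.2 ⟨(PreservesCokernel.iso T' g).symm⟩]
        show PicF.cl (CohB1.tensorMod (cokernel g) (CohB1.tensorPow M N)) = _
        rw [cl_tensor, cl_tensorPow, hC, mul_assoc, ← pow_add]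
        congr 2
      · refine LinearMap.ext fun y => hinj Y' (n + N * i) ((hJ₁.trans hn).trans (Nat.le_add_right _ _)) hY' ?_
        show (mapLin k (eta χ Y') 1 ∘ₗ mapLin k (T'.map g) 1) y = mapLin k (eta χ Y') 1 0
        rw [← hmap_comp, eta_natural, hmap_comp, hg0, LinearMap.zero_comp, map_zero]
        rfl
  obtain ⟨Y, Y', g, hg, hY, -, hC, hg0⟩ := key n₂
  obtain ⟨eC⟩ : Nonempty (cokernel g ≅ (tl (cokernel ((tl F).map Φ))).obj (CohB1.tensorPow M (N * n₂))) :=
    cl_eq_iff.1 (hC.trans (cl_twist _ _).symm)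
  haveI := hn₂ (N * n₂) (Nat.le_mul_of_pos_left n₂ hN)
  have hinjg := h1_injective_of_cokernel k g (CurveCohLib.hhEquiv (k := k) eC 0).toEquiv.subsingleton
  obtain ⟨eY⟩ : Nonempty (Y ≅ G (n + N * j + N * n₂)) := cl_eq_iff.1 (hY.trans (cl_twist _ _).symm)
  haveI : Subsingleton (Coh.HH X Y 1) := subsingleton_of_forall_eq 0 fun y =>
    hinjg (by rw [hg0, map_zero, LinearMap.zero_apply])
  rw [← hper n hn (j + n₂), show n + N * (j + n₂) = n + N * j + N * n₂ by ring]
  show Module.finrank k _ = 0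
  rw [← (CurveCohLib.hhEquiv (k := k) eY 1).finrank_eq]
  exact Module.finrank_zero_of_subsingleton

end Field

end Groth.Agent.VarDepth
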