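import Groth.Agent.AmpleVan.Tw
import Groth.Agent.AmpleVan.Vanish
import Groth.Agent.AssPtX.Noeth
import Groth.Agent.Alg6.AssDepth
import Groth.Agent.InvX.Tensor
import Groth.Agent.KFlatLib.Scheme.Tensor
import Groth.Agent.KFlatLib.Scheme.Exact
import Groth.Agent.KFlatLib.Perfect.Spread
import Groth.Agent.Lib.CurveTensor
import Groth.Agent.FDescent.StalkFinite

/-! Stalks of tensor products with maps between invertible modules. -/

noncomputable section

set_option linter.style.haveILetI false
set_option linter.unusedSectionVars false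
set_option backward.isDefEq.respectTransparency false
set_option backward.isDefEq.respectTransparency.types false

universe u

open CategoryTheory CategoryTheory.Limits AlgebraicGeometry TopologicalSpace MonoidalCategory
open scoped Pointwise

namespace Groth.Agent.VarDepth

open Groth.Agent

variable {X : Scheme.{u}}

/-- The stalk functor. -/
abbrev stk (x : X) : X.Modules ⥤ ModuleCat.{u} (X.presheaf.stalk x) := DerSch.stalkFunctor X x

/-- A morphism is bijective on the stalk at a point. -/
abbrev IsoAt {A B : X.Modules} (φ : A ⟶ B) (x : X) : Prop := IsIso ((stk x).map φ)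

theorem exists_gen {A : X.Modules} (hA : PicF.IsInvertible A) (x : X) :
    ∃ a : (stk x).obj A, Function.Bijective fun c : X.presheaf.stalk x => c • a := by
  obtain ⟨U, hxU, e, he⟩ := InvX.exists_frame hA x
  exact ⟨A.presheaf.germ U x hxU e, he.germ_bijective hxU⟩

theorem exists_stalk_iso {A B : X.Modules} (hA : PicF.IsInvertible A) (hB : PicF.IsInvertible B) (x : X) :
    Nonempty ((stk x).obj A ≅ (stk x).obj B) := by
  obtain ⟨a, ha⟩ := exists_gen hA x
  obtain ⟨b, hb⟩ := exists_gen hB x
  exact ⟨((LinearEquiv.ofBijective (LinearMap.toSpanSingleton (X.presheaf.stalk x) _ a) ha).symm.trans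
    (LinearEquiv.ofBijective (LinearMap.toSpanSingleton (X.presheaf.stalk x) _ b) hb)).toModuleIso⟩

theorem exists_coord {A B : X.Modules} (hA : PicF.IsInvertible A) (hB : PicF.IsInvertible B)
    (φ : A ⟶ B) (x : X) :
    ∃ (g : X.presheaf.stalk x) (β : (stk x).obj A ≅ (stk x).obj B),
      (stk x).map φ = g • β.hom ∧ (IsoAt φ x ↔ IsUnit g) := by
  obtain ⟨a, ha⟩ := exists_gen hA x
  obtain ⟨β⟩ := exists_stalk_iso hA hB x
  have hb : Function.Bijective fun c : X.presheaf.stalk x => c • β.hom a := by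
    have h : (fun c : X.presheaf.stalk x => c • β.hom a) = β.hom.hom ∘ fun c => c • a :=
      funext fun c => (map_smul β.hom.hom c a).symm
    rw [h]
    exact (ConcreteCategory.bijective_of_isIso β.hom).comp ha
  obtain ⟨g, hg⟩ := hb.2 ((stk x).map φ a)
  have h1 : (stk x).map φ = g • β.hom := by
    ext m
    obtain ⟨c, rfl⟩ := ha.2 m
    show ((stk x).map φ).hom (c • a) = g • β.hom.hom (c • a)
    rw [map_smul, map_smul, smul_comm g c]
    exact congrArg (c • ·) hg.symm
  refine ⟨g, β, h1, fun hiso => ?_, fun hu => ?_⟩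
  · haveI : IsIso (g • β.hom) := h1 ▸ hiso
    obtain ⟨m, hm⟩ := (ConcreteCategory.bijective_of_isIso (g • β.hom)).2 (β.hom a)
    obtain ⟨c, rfl⟩ := ha.2 m
    change g • β.hom.hom (c • a) = β.hom a at hm
    rw [map_smul, ← mul_smul] at hm
    exact IsUnit.of_mul_eq_one c (hb.1 (a₁ := g * c) (a₂ := 1) (hm.trans (one_smul _ (β.hom a)).symm))
  · show IsIso ((stk x).map φ)
    rw [h1]
    refine ⟨(↑(hu.unit⁻¹) : X.presheaf.stalk x) • β.inv, ?_, ?_⟩ <;>
      simp [Linear.smul_comp, Linear.comp_smul, smul_smul]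

theorem exists_tensor_coord (G : X.Modules) {A B : X.Modules} (hA : PicF.IsInvertible A)
    (hB : PicF.IsInvertible B) (φ : A ⟶ B) (x : X) :
    ∃ (g : X.presheaf.stalk x) (θ : (stk x).obj ((DCoh.tensorBi.obj G).obj A) ≅
        (stk x).obj ((DCoh.tensorBi.obj G).obj B)),
      (stk x).map ((DCoh.tensorBi.obj G).map φ) = g • θ.hom ∧ (IsoAt φ x ↔ IsUnit g) := by
  obtain ⟨g, β, hg, hiff⟩ := exists_coord hA hB φ x
  let e := KFlatLib.stalkTensorLeftIso G x
  refine ⟨g, e.app A ≪≫ whiskerLeftIso ((stk x).obj G) β ≪≫ (e.app B).symm, ?_, hiff⟩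
  have hnat : (stk x).map ((DCoh.tensorBi.obj G).map φ) ≫ e.hom.app B =
      e.hom.app A ≫ (stk x).obj G ◁ (stk x).map φ := e.hom.naturality φ
  have hw : (stk x).obj G ◁ (g • β.hom) = g • ((stk x).obj G ◁ β.hom) :=
    ModuleCat.hom_ext (LinearMap.lTensor_smul ((stk x).obj G) g β.hom.hom)
  rw [hg, hw] at hnat
  have h2 : (stk x).map ((DCoh.tensorBi.obj G).map φ) =
      ((stk x).map ((DCoh.tensorBi.obj G).map φ) ≫ e.hom.app B) ≫ e.inv.app B := by
    rw [Category.assoc, Iso.hom_inv_id_app]
    exact (Category.comp_id _).symm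
  rw [h2, hnat, Linear.comp_smul, Linear.smul_comp]
  rfl

/-- Stalks do not see twists by invertible modules. -/
theorem exists_stalk_twist (G : X.Modules) {A : X.Modules} (hA : PicF.IsInvertible A) (x : X) :
    Nonempty ((stk x).obj ((DCoh.tensorBi.obj G).obj A) ≅ (stk x).obj G) := by
  obtain ⟨β⟩ := exists_stalk_iso hA InvX.isInvertible_structureModule x
  let e := KFlatLib.stalkTensorLeftIso G x
  exact ⟨e.app A ≪≫ whiskerLeftIso ((stk x).obj G) β ≪≫ (e.app (Coh.structureModule X)).symm ≪≫
    (stk x).mapIso (AmpleVan.twUnit.app G)⟩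

theorem isoAt_of_restrict {A B : X.Modules} (φ : A ⟶ B) {U : X.Opens}
    [IsIso ((Scheme.Modules.restrictFunctor U.ι).map φ)] {x : X} (hx : x ∈ U) : IsoAt φ x :=
  KFlatLib.isIso_stalk_of_restrict φ hx inferInstance

section Noeth

variable [IsLocallyNoetherian X]

theorem isAssPoint_iff_mem {G : X.Modules} {x : X} :
    Curv2.IsAssPoint G x ↔
      IsLocalRing.maximalIdeal (X.presheaf.stalk x) ∈ associatedPrimes (X.presheaf.stalk x) ((stk x).obj G) :=
  Iff.rfl

theorem isAssPoint_iff_of_iso {G H : X.Modules} {x : X} (e : (stk x).obj G ≅ (stk x).obj H) :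
    Curv2.IsAssPoint G x ↔ Curv2.IsAssPoint H x := by
  rw [isAssPoint_iff_mem, isAssPoint_iff_mem, LinearEquiv.AssociatedPrimes.eq e.toLinearEquiv]

theorem isAssPoint_tensor_iff (G : X.Modules) {A : X.Modules} (hA : PicF.IsInvertible A) (x : X) :
    Curv2.IsAssPoint ((DCoh.tensorBi.obj G).obj A) x ↔ Curv2.IsAssPoint G x :=
  isAssPoint_iff_of_iso (exists_stalk_twist G hA x).some

theorem not_isAssPoint_of_subsingleton {G : X.Modules} {x : X} [Subsingleton ((stk x).obj G)] :
    ¬ Curv2.IsAssPoint G x := by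
  rw [isAssPoint_iff_mem, associatedPrimes.eq_empty_of_subsingleton]
  exact Set.notMem_empty _

theorem not_isAssPoint_of_depth {G : X.Modules} (hG : Coh.IsCoh G) {x : X}
    (h : 1 ≤ LocCoh.depth (X.presheaf.stalk x) ((stk x).obj G)) : ¬ Curv2.IsAssPoint G x := by
  haveI : Module.Finite (X.presheaf.stalk x) ((stk x).obj G) := by
    haveI : SheafOfModules.IsFiniteType (R := X.ringCatSheaf) G := hG.2
    exact FDescent.finite_stalk G x
  exact fun hx => Alg6.one_le_depth_iff.1 h (isAssPoint_iff_mem.1 hx)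

/-- Tensoring with a map of invertible modules is injective if it is bijective at associated points. -/
theorem mono_tensor {G : X.Modules} (hG : Coh.IsQCoh G) {A B : X.Modules} (hA : PicF.IsInvertible A)
    (hB : PicF.IsInvertible B) (φ : A ⟶ B) (hφ : ∀ x, Curv2.IsAssPoint G x → IsoAt φ x) :
    Mono ((DCoh.tensorBi.obj G).map φ) := by
  refine AssPtX.mono_of_stalk _ (KFlatLib.isQCoh_tensor hG (ProjUPX.isQCoh_of_isInvertible hA))
    fun x => or_iff_not_imp_right.2 fun h => ?_
  have hass := (isAssPoint_tensor_iff G hA x).1 (AssPtX.isAssPoint_iff.2 (not_not.1 h))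
  obtain ⟨g, θ, hg, hiff⟩ := exists_tensor_coord G hA hB φ x
  intro a b hab
  have hab' : (stk x).map ((DCoh.tensorBi.obj G).map φ) a = (stk x).map ((DCoh.tensorBi.obj G).map φ) b := hab
  rw [hg] at hab'
  change g • θ.hom a = g • θ.hom b at hab'
  exact (ConcreteCategory.bijective_of_isIso θ.hom).1 ((hiff.1 (hφ x hass)).smul_left_cancel.1 hab')

/-- The cokernel of a map of twists has no closed associated point. -/
theorem not_isAssPoint_cokernel {G : X.Modules} (hG : Coh.IsCoh G) {A B : X.Modules} (hA : PicF.IsInvertible A)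
    (hB : PicF.IsInvertible B) (φ : A ⟶ B) [Mono ((DCoh.tensorBi.obj G).map φ)] (x : X)
    (hdepth : 2 ≤ LocCoh.depth (X.presheaf.stalk x) ((stk x).obj G)) :
    ¬ Curv2.IsAssPoint (cokernel ((DCoh.tensorBi.obj G).map φ)) x := by
  haveI : Module.Finite (X.presheaf.stalk x) ((stk x).obj G) := by
    haveI : SheafOfModules.IsFiniteType (R := X.ringCatSheaf) G := hG.2
    exact FDescent.finite_stalk G x
  obtain ⟨g, θ, hg, hiff⟩ := exists_tensor_coord G hA hB φ x
  let ψ := (DCoh.tensorBi.obj G).map φ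
  let M := (stk x).obj ((DCoh.tensorBi.obj G).obj B)
  obtain ⟨e⟩ := exists_stalk_twist G hB x
  let π := ((stk x).map (cokernel.π ψ)).hom
  have hsurj : Function.Surjective π := (ModuleCat.epi_iff_surjective _).1 inferInstance
  have hker : LinearMap.ker π = g • (⊤ : Submodule (X.presheaf.stalk x) M) := by
    have hex := (KFlatLib.exact_iff_stalk _).1
      (ShortComplex.exact_of_g_is_cokernel (ShortComplex.mk ψ (cokernel.π ψ) (cokernel.condition ψ))
        (cokernelIsCokernel ψ)) x
    have h2 := hex.moduleCat_range_eq_ker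
    change LinearMap.range ((stk x).map ψ).hom = LinearMap.ker π at h2
    rw [← h2, show (stk x).map ψ = g • θ.hom from hg]
    ext m
    constructor
    · rintro ⟨a, rfl⟩
      exact Submodule.smul_mem_pointwise_smul (θ.hom a) g ⊤ trivial
    · intro hm
      obtain ⟨m', -, rfl⟩ := hm
      refine ⟨θ.inv m', ?_⟩
      show g • θ.hom (θ.inv m') = g • m'
      rw [← ConcreteCategory.comp_apply, θ.inv_hom_id, ConcreteCategory.id_apply]
  intro hass
  have hass' := isAssPoint_iff_mem.1 hass
  by_cases hu : IsUnit g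
  · haveI : Subsingleton ((stk x).obj (cokernel ψ)) := by
      refine subsingleton_of_forall_eq 0 fun c => ?_
      obtain ⟨m, rfl⟩ := hsurj c
      refine LinearMap.mem_ker.1 (hker.symm ▸ ?_ : m ∈ LinearMap.ker π)
      have h3 := Submodule.smul_mem_pointwise_smul ((↑(hu.unit⁻¹) : X.presheaf.stalk x) • m) g (⊤ : Submodule (X.presheaf.stalk x) M) trivial
      rwa [smul_smul, IsUnit.mul_val_inv, one_smul] at h3
    exact not_isAssPoint_of_subsingleton hass
  have hgm : g ∈ IsLocalRing.maximalIdeal (X.presheaf.stalk x) := hu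
  have hreg : IsSMulRegular M g := by
    intro a b hab
    have hinj : Function.Injective ((stk x).map ψ).hom := (ModuleCat.mono_iff_injective _).1 inferInstance
    rw [show (stk x).map ψ = g • θ.hom from hg] at hinj
    have := @hinj (θ.inv a) (θ.inv b) (by
      show g • θ.hom (θ.inv a) = g • θ.hom (θ.inv b)
      rw [← ConcreteCategory.comp_apply, θ.inv_hom_id, ConcreteCategory.id_apply,
        ← ConcreteCategory.comp_apply, θ.inv_hom_id, ConcreteCategory.id_apply]
      exact hab)
    exact (ConcreteCategory.bijective_of_isIso θ.inv).1 this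
  have hreg' : IsSMulRegular ((stk x).obj G) g := e.toLinearEquiv.isSMulRegular_congr g |>.1 hreg
  refine (Alg6.two_le_depth_iff hgm hreg').1 hdepth ?_
  rw [← LinearEquiv.AssociatedPrimes.eq (QuotSMulTop.congr g e.toLinearEquiv),
    LinearEquiv.AssociatedPrimes.eq ((Submodule.quotEquivOfEq _ _ hker.symm).trans
      (π.quotKerEquivOfSurjective hsurj))]
  exact hass'

end Noeth

end Groth.Agent.VarDepth
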